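import Mathlib

/-!
Basic bookkeeping for the proof of the bound `(2p-1) n_p(H) ≤ (p-1) n_p(G)`.
-/

set_option autoImplicit false

namespace CfsgLib.SylRatio

open Subgroup

variable {G : Type*} [Group G]

/-- conjugate of a subgroup -/
def cj (g : G) (H : Subgroup G) : Subgroup G := H.map (MulAut.conj g).toMonoidHom

theorem mem_cj {g x : G} {H : Subgroup G} : x ∈ cj g H ↔ g⁻¹ * x * g ∈ H := by
  unfold cj
  constructor
  · rintro ⟨y, hy, rfl⟩
    simpa [MulAut.conj_apply, mul_assoc] using hy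
  · intro h
    exact ⟨g⁻¹ * x * g, h, by simp [MulAut.conj_apply, mul_assoc]⟩

@[simp] theorem cj_one (H : Subgroup G) : cj (1 : G) H = H := by ext x; simp [mem_cj]

theorem cj_mul (a b : G) (H : Subgroup G) : cj (a * b) H = cj a (cj b H) := by
  ext x; simp [mem_cj, mul_assoc]

theorem cj_inv_cj (a : G) (H : Subgroup G) : cj a⁻¹ (cj a H) = H := by rw [← cj_mul]; simp

theorem cj_cj_inv (a : G) (H : Subgroup G) : cj a (cj a⁻¹ H) = H := by rw [← cj_mul]; simp

theorem cj_mono (a : G) {H K : Subgroup G} (h : H ≤ K) : cj a H ≤ cj a K := map_mono h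

theorem cj_le_iff {a : G} {H K : Subgroup G} : cj a H ≤ cj a K ↔ H ≤ K :=
  ⟨fun h => by simpa [cj_inv_cj] using cj_mono a⁻¹ h, cj_mono a⟩

theorem cj_injective (a : G) : Function.Injective (cj a) := fun H K h => by
  simpa [cj_inv_cj] using congrArg (cj a⁻¹) h

theorem cj_inf (a : G) (H K : Subgroup G) : cj a (H ⊓ K) = cj a H ⊓ cj a K := by
  ext x; simp [mem_cj]

theorem card_cj (a : G) (H : Subgroup G) : Nat.card (cj a H) = Nat.card H :=
  (Nat.card_congr (H.equivMapOfInjective _ (MulAut.conj a).injective).toEquiv).symm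

theorem relIndex_cj (a : G) (H K : Subgroup G) :
    (cj a H).relIndex (cj a K) = H.relIndex K :=
  relIndex_map_map_of_injective H K (MulAut.conj a).injective

theorem cj_mem_of_mem {a : G} {H : Subgroup G} (ha : a ∈ H) : cj a H = H := by
  ext x
  rw [mem_cj]
  constructor
  · intro h
    simpa [mul_assoc] using H.mul_mem (H.mul_mem ha h) (H.inv_mem ha)
  · intro h
    exact H.mul_mem (H.mul_mem (H.inv_mem ha) h) ha

variable (p : ℕ)

/-- elements of `p`-power order -/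
def pel (g : G) : Prop := ∃ k : ℕ, orderOf g = p ^ k

theorem pel_conj {g : G} (a : G) (h : pel p g) : pel p (a * g * a⁻¹) := by
  obtain ⟨k, hk⟩ := h
  exact ⟨k, by rw [← hk]; exact (MulAut.conj a).orderOf_eq g⟩

/-- the subgroup generated by the `p`-elements of `A` -/
def R (A : Subgroup G) : Subgroup G := closure {g | g ∈ A ∧ pel p g}

theorem R_le (A : Subgroup G) : R p A ≤ A := (closure_le _).2 fun _ h => h.1

theorem mem_R {A : Subgroup G} {g : G} (hg : g ∈ A) (hp : pel p g) : g ∈ R p A :=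
  subset_closure ⟨hg, hp⟩

theorem R_mono {A B : Subgroup G} (h : A ≤ B) : R p A ≤ R p B :=
  (closure_le _).2 fun _ hg => mem_R p (h hg.1) hg.2

theorem R_R (A : Subgroup G) : R p (R p A) = R p A :=
  le_antisymm (R_le p _) ((closure_le _).2 fun _ hg => mem_R p (mem_R p hg.1 hg.2) hg.2)

theorem le_R_of_gen {A B : Subgroup G} (hA : R p A = A) (h : A ≤ B) : A ≤ R p B :=
  hA ▸ R_mono p h

theorem R_cj (a : G) (A : Subgroup G) : R p (cj a A) = cj a (R p A) := by
  unfold R cj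
  rw [MonoidHom.map_closure]
  congr 1
  ext x
  constructor
  · rintro ⟨hx, hp⟩
    obtain ⟨y, hy, rfl⟩ := hx
    refine ⟨y, ⟨hy, ?_⟩, rfl⟩
    obtain ⟨k, hk⟩ := hp
    exact ⟨k, by rw [← hk]; exact ((MulAut.conj a).orderOf_eq y).symm⟩
  · rintro ⟨y, ⟨hy, hp⟩, rfl⟩
    exact ⟨⟨y, hy, rfl⟩, pel_conj p a hp⟩

theorem R_sup {A B : Subgroup G} (hA : R p A = A) (hB : R p B = B) :
    R p (A ⊔ B) = A ⊔ B :=
  le_antisymm (R_le p _) (sup_le (le_R_of_gen p hA le_sup_left) (le_R_of_gen p hB le_sup_right))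

/-- `M ≤ L` and `M` contains a Sylow `p`-subgroup of `L` -/
def Full (M L : Subgroup G) : Prop := M ≤ L ∧ ¬ p ∣ M.relIndex L

theorem full_refl (hp : p.Prime) (A : Subgroup G) : Full p A A :=
  ⟨le_rfl, by simp [hp.ne_one]⟩

variable {p}

theorem Full.trans (hp : p.Prime) {A B C : Subgroup G} (h1 : Full p A B) (h2 : Full p B C) :
    Full p A C := by
  refine ⟨h1.1.trans h2.1, ?_⟩
  rw [← relIndex_mul_relIndex A B C h1.1 h2.1]
  exact fun h => (hp.dvd_mul.1 h).elim h1.2 h2.2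

theorem Full.left {A B C : Subgroup G} (h : Full p A C) (hAB : A ≤ B) (hBC : B ≤ C) :
    Full p A B :=
  ⟨hAB, fun hd => h.2 (relIndex_mul_relIndex A B C hAB hBC ▸ dvd_mul_of_dvd_left hd _)⟩

theorem Full.right {A B C : Subgroup G} (h : Full p A C) (hAB : A ≤ B) (hBC : B ≤ C) :
    Full p B C :=
  ⟨hBC, fun hd => h.2 (relIndex_mul_relIndex A B C hAB hBC ▸ dvd_mul_of_dvd_right hd _)⟩

theorem Full.cj {A B : Subgroup G} (h : Full p A B) (a : G) :
    Full p (SylRatio.cj a A) (SylRatio.cj a B) :=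
  ⟨cj_mono a h.1, by rw [relIndex_cj]; exact h.2⟩

variable (p)

/-- Sylow `p`-subgroups of `M`, as subgroups of `G` -/
def syl (M : Subgroup G) : Set (Subgroup G) := {Q | IsPGroup p Q ∧ Full p Q M}

/-- number of Sylow `p`-subgroups -/
noncomputable def nS (M : Subgroup G) : ℕ := (syl p M).ncard

theorem syl_cj (a : G) (M : Subgroup G) : syl p (cj a M) = cj a '' syl p M := by
  ext Q
  constructor
  · rintro ⟨hQ, hF⟩
    refine ⟨cj a⁻¹ Q, ⟨?_, ?_⟩, cj_cj_inv a Q⟩
    · exact hQ.map _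
    · simpa [cj_inv_cj] using hF.cj a⁻¹
  · rintro ⟨Q', ⟨hQ, hF⟩, rfl⟩
    exact ⟨hQ.map _, hF.cj a⟩

theorem nS_cj (a : G) (M : Subgroup G) : nS p (cj a M) = nS p M := by
  unfold nS
  rw [syl_cj, Set.ncard_image_of_injective _ (cj_injective a)]

variable [Fact p.Prime]

theorem syl_nonempty [Finite G] (M : Subgroup G) : (syl p M).Nonempty := by
  obtain ⟨P⟩ : Nonempty (Sylow p M) := inferInstance
  refine ⟨(P : Subgroup M).map M.subtype, P.2.map _, map_subtype_le _, ?_⟩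
  have : ((P : Subgroup M).map M.subtype).relIndex M = (P : Subgroup M).index := by
    rw [Subgroup.relIndex, Subgroup.subgroupOf,
      comap_map_eq_self_of_injective M.subtype_injective]
  rw [this]
  exact P.not_dvd_index

theorem nS_pos [Finite G] (M : Subgroup G) : 0 < nS p M :=
  (Set.ncard_pos (Set.toFinite _)).2 (syl_nonempty p M)

theorem exists_sylow [Finite G] {M Q : Subgroup G} (hQ : Q ∈ syl p M) :
    ∃ P : Sylow p M, (P : Subgroup M) = Q.subgroupOf M := by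
  refine ⟨(hQ.1.comap_subtype (K := M)).toSylow ?_, rfl⟩
  exact hQ.2.2

theorem syl_conj [Finite G] {M Q Q' : Subgroup G} (hQ : Q ∈ syl p M) (hQ' : Q' ∈ syl p M) :
    ∃ g ∈ M, cj g Q = Q' := by
  obtain ⟨P, hP⟩ := exists_sylow p hQ
  obtain ⟨P', hP'⟩ := exists_sylow p hQ'
  obtain ⟨g, hg⟩ := MulAction.exists_smul_eq M P P'
  refine ⟨g, g.2, ?_⟩
  have h : ((g • P : Sylow p M) : Subgroup M) = Q'.subgroupOf M := by rw [hg, hP']
  rw [Sylow.coe_subgroup_smul, hP] at h
  ext x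
  rw [mem_cj]
  constructor
  · intro hx
    have hxM : x ∈ M := by
      simpa [mul_assoc] using M.mul_mem (M.mul_mem g.2 (hQ.2.1 hx)) (M.inv_mem g.2)
    have : (⟨x, hxM⟩ : M) ∈ Q'.subgroupOf M := by
      rw [← h, Subgroup.mem_pointwise_smul_iff_inv_smul_mem, mem_subgroupOf]
      simpa [mul_assoc] using hx
    simpa [mem_subgroupOf] using this
  · intro hx
    have hxM : x ∈ M := hQ'.2.1 hx
    have : (⟨x, hxM⟩ : M) ∈ Q'.subgroupOf M := by simpa [mem_subgroupOf] using hx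
    rw [← h, Subgroup.mem_pointwise_smul_iff_inv_smul_mem, mem_subgroupOf] at this
    simpa [mul_assoc] using this

theorem nS_eq_card [Finite G] (M : Subgroup G) : nS p M = Nat.card (Sylow p M) := by
  unfold nS
  rw [← Nat.card_coe_set_eq]
  refine (Nat.card_congr (Equiv.ofBijective (fun P : Sylow p M =>
    (⟨(P : Subgroup M).map M.subtype, ?_⟩ : syl p M)) ⟨?_, ?_⟩)).symm
  · refine ⟨P.2.map _, map_subtype_le _, ?_⟩
    rw [Subgroup.relIndex, Subgroup.subgroupOf,
      comap_map_eq_self_of_injective M.subtype_injective]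
    exact P.not_dvd_index
  · intro P P' h
    exact Sylow.ext (map_injective M.subtype_injective (congrArg Subtype.val h))
  · rintro ⟨Q, hQ⟩
    obtain ⟨P, hP⟩ := exists_sylow p hQ
    refine ⟨P, Subtype.ext ?_⟩
    show (P : Subgroup M).map M.subtype = Q
    rw [hP, subgroupOf_map_subtype, inf_of_le_left hQ.2.1]

theorem exists_syl_ge [Finite G] {M S : Subgroup G} (hS : IsPGroup p S) (hSM : S ≤ M) :
    ∃ Q ∈ syl p M, S ≤ Q := by
  obtain ⟨P, hP⟩ := (hS.comap_subtype (K := M)).exists_le_sylow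
  refine ⟨(P : Subgroup M).map M.subtype, ⟨P.2.map _, map_subtype_le _, ?_⟩, ?_⟩
  · rw [Subgroup.relIndex, Subgroup.subgroupOf,
      comap_map_eq_self_of_injective M.subtype_injective]
    exact P.not_dvd_index
  · intro g hg
    exact ⟨⟨g, hSM hg⟩, hP (show (⟨g, hSM hg⟩ : M) ∈ S.comap M.subtype from hg), rfl⟩

theorem pel_of_mem {Q : Subgroup G} (hQ : IsPGroup p Q) {g : G} (hg : g ∈ Q) : pel p g := by
  obtain ⟨k, hk⟩ := IsPGroup.iff_orderOf.1 hQ ⟨g, hg⟩
  exact ⟨k, by rw [← hk, Subgroup.orderOf_mk]⟩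

theorem R_of_pgroup {Q : Subgroup G} (hQ : IsPGroup p Q) : R p Q = Q :=
  le_antisymm (R_le p _) fun g hg => mem_R p hg (pel_of_mem p hQ hg)

theorem syl_le_R {M Q : Subgroup G} (hQ : Q ∈ syl p M) : Q ≤ R p M :=
  R_of_pgroup p hQ.1 ▸ R_mono p hQ.2.1

theorem R_full [Finite G] (M : Subgroup G) : Full p (R p M) M := by
  obtain ⟨Q, hQ⟩ := syl_nonempty p M
  exact hQ.2.right (syl_le_R p hQ) (R_le p M)

theorem syl_eq_of_full {M L : Subgroup G} (h : Full p M L) :
    syl p M = {Q ∈ syl p L | Q ≤ M} := by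
  ext Q
  constructor
  · intro hQ; exact ⟨⟨hQ.1, hQ.2.trans Fact.out h⟩, hQ.2.1⟩
  · rintro ⟨⟨h1, h2⟩, h3⟩; exact ⟨h1, h2.left h3 h.1⟩

theorem mem_syl_of_full {M L Q : Subgroup G} (h : Full p M L) (hQ : Q ∈ syl p M) :
    Q ∈ syl p L := ⟨hQ.1, hQ.2.trans Fact.out h⟩

theorem nS_R [Finite G] (M : Subgroup G) : nS p (R p M) = nS p M := by
  unfold nS
  congr 1
  rw [syl_eq_of_full p (R_full p M)]
  ext Q
  exact ⟨fun h => h.1, fun h => ⟨h, syl_le_R p h⟩⟩

/-- A `p`-element of `L` normalizing a full subgroup lies in it. -/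
theorem mem_of_normalizing [Finite G] {x L : Subgroup G} (hx : Full p x L) {g : G} (hg : g ∈ L)
    (hp : pel p g) (hn : cj g x = x) : g ∈ x := by
  let N : Subgroup G := Subgroup.normalizer (x : Set G)
  have hxN : x ≤ N ⊓ L := le_inf Subgroup.le_normalizer hx.1
  have hgN : g ∈ N := by
    rw [Subgroup.mem_normalizer_iff]
    intro h
    conv_rhs => rw [← hn, mem_cj]
    simp [mul_assoc]
  let K : Subgroup G := N ⊓ L
  have : (x.subgroupOf K).Normal := by
    refine ⟨fun a ha b => ?_⟩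
    rw [mem_subgroupOf] at ha ⊢
    exact (Subgroup.mem_normalizer_iff.1 b.2.1 _).1 ha
  let f := QuotientGroup.mk' (x.subgroupOf K)
  have hgK : g ∈ K := ⟨hgN, hg⟩
  let u : K := ⟨g, hgK⟩
  obtain ⟨k, hk⟩ := hp
  have h1 : orderOf (f u) ∣ p ^ k := by
    refine (orderOf_map_dvd f _).trans ?_
    rw [← hk, ← Subgroup.orderOf_coe]
  have h2 : orderOf (f u) ∣ x.relIndex K := by
    unfold Subgroup.relIndex
    rw [Subgroup.index]
    exact orderOf_dvd_natCard _
  have h3 : x.relIndex K ∣ x.relIndex L :=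
    Dvd.intro _ (relIndex_mul_relIndex x K L hxN inf_le_right)
  have h4 : orderOf (f u) = 1 := by
    obtain ⟨j, -, hj⟩ := (Nat.dvd_prime_pow (Fact.out : p.Prime)).1 h1
    rcases j with _ | j
    · simpa using hj
    · exact absurd ((dvd_pow_self p (Nat.succ_ne_zero j)).trans (hj ▸ h2.trans h3)) hx.2
  have h5 := orderOf_eq_one_iff.1 h4
  rw [QuotientGroup.mk'_apply, QuotientGroup.eq_one_iff, mem_subgroupOf] at h5
  exact h5

end CfsgLib.SylRatio
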