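import Cfsg.Agent.Lib.SylowRatio.Basic

/-!
Conjugacy classes of full subgroups: double counting and the orbit lemma.
-/

set_option autoImplicit false

namespace CfsgLib.SylRatio

open Subgroup

variable {G : Type*} [Group G]

/-- conjugation action on subgroups -/
@[reducible] def cjAction : MulAction G (Subgroup G) where
  smul := cj
  one_smul := cj_one
  mul_smul := cj_mul

/-- the `L`-conjugates of `M` -/
def conjs (L M : Subgroup G) : Set (Subgroup G) := (fun g => cj g M) '' (L : Set G)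

/-- members of `Y` containing `Q` -/
def fixS (Q : Subgroup G) (Y : Set (Subgroup G)) : Set (Subgroup G) := {y ∈ Y | Q ≤ y}

theorem self_mem_conjs (L M : Subgroup G) : M ∈ conjs L M := ⟨1, L.one_mem, cj_one M⟩

theorem cj_mem_conjs {L M y : Subgroup G} {g : G} (hg : g ∈ L) (hy : y ∈ conjs L M) :
    cj g y ∈ conjs L M := by
  obtain ⟨a, ha, rfl⟩ := hy
  exact ⟨g * a, L.mul_mem hg ha, cj_mul g a M⟩

theorem conjs_eq_of_mem {L M x : Subgroup G} (hx : x ∈ conjs L M) : conjs L x = conjs L M := by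
  obtain ⟨a, ha, rfl⟩ := hx
  ext y
  constructor
  · rintro ⟨g, hg, rfl⟩; exact cj_mem_conjs hg ⟨a, ha, rfl⟩
  · rintro ⟨g, hg, rfl⟩
    exact ⟨g * a⁻¹, L.mul_mem hg (L.inv_mem ha), by simp only [cj_mul, cj_inv_cj]⟩

theorem fixS_cj {Q : Subgroup G} {Y : Set (Subgroup G)} {g : G}
    (hY : ∀ y, cj g y ∈ Y ↔ y ∈ Y) : fixS (cj g Q) Y = cj g '' fixS Q Y := by
  ext y
  constructor
  · rintro ⟨h1, h2⟩
    refine ⟨cj g⁻¹ y, ⟨?_, ?_⟩, cj_cj_inv g y⟩
    · exact (hY _).1 (by rwa [cj_cj_inv])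
    · rw [← cj_le_iff (a := g), cj_cj_inv]; exact h2
  · rintro ⟨y, ⟨h1, h2⟩, rfl⟩
    exact ⟨(hY _).2 h1, cj_mono g h2⟩

variable (p : ℕ)

/-- `M` is a proper full subgroup of `L`, both generated by `p`-elements -/
structure Ext (L M : Subgroup G) : Prop where
  full : Full p M L
  ne : M ≠ L
  genL : R p L = L
  genM : R p M = M

/-- number of conjugates -/
noncomputable def vv (L M : Subgroup G) : ℕ := (conjs L M).ncard

/-- number of conjugates containing a given Sylow subgroup -/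
noncomputable def tt (L M : Subgroup G) : ℕ := vv L M * nS p M / nS p L

/-- number of `p`-blocks moved -/
noncomputable def ii (L M : Subgroup G) : ℕ := (vv L M - tt p L M) / p

/-- the defect -/
noncomputable def mm (L M : Subgroup G) : ℤ :=
  ((p : ℤ) - 1) * (ii p L M : ℤ) - (tt p L M : ℤ)

variable [Finite G] [Fact p.Prime]

theorem card_mod {Q : Subgroup G} (hQ : IsPGroup p Q) {Y : Set (Subgroup G)}
    (hY : ∀ g ∈ Q, ∀ y ∈ Y, cj g y ∈ Y) :
    Y.ncard ≡ {y ∈ Y | ∀ g ∈ Q, cj g y = y}.ncard [MOD p] := by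
  letI : MulAction Q Y :=
    { smul := fun g y => ⟨cj (g : G) y, hY g g.2 y y.2⟩
      one_smul := fun y => Subtype.ext (cj_one _)
      mul_smul := fun a b y => Subtype.ext (cj_mul _ _ _) }
  have h := hQ.card_modEq_card_fixedPoints (α := Y)
  rw [Nat.card_coe_set_eq] at h
  refine h.trans ?_
  rw [← Nat.card_coe_set_eq {y ∈ Y | ∀ g ∈ Q, cj g y = y}]
  refine congrArg (· % p) (Nat.card_congr ?_)
  exact
    { toFun := fun y => ⟨(y.1 : Subgroup G), y.1.2, fun g hg =>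
        congrArg Subtype.val (y.2 ⟨g, hg⟩)⟩
      invFun := fun y => ⟨⟨y.1, y.2.1⟩, fun g => Subtype.ext (y.2.2 g g.2)⟩
      left_inv := fun y => rfl
      right_inv := fun y => rfl }

theorem fix_iff {Q L y : Subgroup G} (hQ : IsPGroup p Q) (hQL : Q ≤ L) (hy : Full p y L) :
    Q ≤ y ↔ ∀ g ∈ Q, cj g y = y :=
  ⟨fun h _ hg => cj_mem_of_mem (h hg), fun h g hg =>
    mem_of_normalizing p hy (hQL hg) (pel_of_mem p hQ hg) (h g hg)⟩

theorem card_mod' {Q L : Subgroup G} (hQ : IsPGroup p Q) (hQL : Q ≤ L) {Y : Set (Subgroup G)}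
    (hY : ∀ g ∈ Q, ∀ y ∈ Y, cj g y ∈ Y) (hfull : ∀ y ∈ Y, Full p y L) :
    Y.ncard ≡ (fixS Q Y).ncard [MOD p] := by
  have h := card_mod p hQ hY
  convert h using 3
  ext y
  exact ⟨fun h => ⟨h.1, (fix_iff p hQ hQL (hfull y h.1)).1 h.2⟩,
    fun h => ⟨h.1, (fix_iff p hQ hQL (hfull y h.1)).2 h.2⟩⟩

variable {p}

theorem Ext.mem {L M x : Subgroup G} (h : Ext p L M) (hx : x ∈ conjs L M) :
    Ext p L x ∧ nS p x = nS p M ∧ Nat.card x = Nat.card M := by
  obtain ⟨g, hg, rfl⟩ := hx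
  refine ⟨⟨?_, ?_, h.genL, ?_⟩, nS_cj p g M, card_cj g M⟩
  · have := h.full.cj g
    rwa [cj_mem_of_mem hg] at this
  · intro hc
    exact h.ne (cj_injective g (by rw [cj_mem_of_mem (hg : g ∈ L)]; exact hc))
  · rw [R_cj, h.genM]

theorem Ext.eq_of_le {L M x y : Subgroup G} (h : Ext p L M) (hx : x ∈ conjs L M)
    (hy : y ∈ conjs L M) (hxy : x ≤ y) : x = y :=
  Subgroup.eq_of_le_of_card_ge hxy (by rw [(h.mem hx).2.2, (h.mem hy).2.2])

theorem Ext.fix_const {L M Q Q' : Subgroup G} (hQ : Q ∈ syl p L) (hQ' : Q' ∈ syl p L) :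
    (fixS Q' (conjs L M)).ncard = (fixS Q (conjs L M)).ncard := by
  obtain ⟨g, hg, rfl⟩ := syl_conj p hQ hQ'
  rw [fixS_cj, Set.ncard_image_of_injective _ (cj_injective g)]
  intro y
  exact ⟨fun h => by simpa [cj_inv_cj] using cj_mem_conjs (L.inv_mem hg) h, cj_mem_conjs hg⟩

theorem Ext.count {L M : Subgroup G} (h : Ext p L M) {Q : Subgroup G} (hQ : Q ∈ syl p L) :
    (fixS Q (conjs L M)).ncard = tt p L M ∧ tt p L M * nS p L = vv L M * nS p M := by
  classical
  set c := (fixS Q (conjs L M)).ncard with hc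
  have key : nS p L * c = vv L M * nS p M := by
    have hA := (Set.toFinite (syl p L))
    have hB := (Set.toFinite (conjs L M))
    unfold nS vv
    rw [Set.ncard_eq_toFinset_card _ hA, Set.ncard_eq_toFinset_card _ hB]
    refine Finset.card_mul_eq_card_mul (r := fun Q x => Q ≤ x) ?_ ?_
    · intro Q' hQ'
      rw [hc, ← Ext.fix_const (M := M) hQ (hA.mem_toFinset.1 hQ'), ← Set.ncard_coe_finset]
      congr 1
      ext x
      simp [Finset.bipartiteAbove, fixS]
    · intro x hx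
      have hx' := hB.mem_toFinset.1 hx
      have : (syl p M).ncard = (syl p x).ncard := (h.mem hx').2.1.symm
      rw [this, ← Set.ncard_coe_finset, syl_eq_of_full p (h.mem hx').1.full]
      congr 1
      ext Q'
      simp [Finset.bipartiteBelow]
  have hc' : c = tt p L M := by
    unfold tt
    rw [← key, Nat.mul_div_cancel_left _ (nS_pos p L)]
  exact ⟨hc', by rw [← key, hc', mul_comm]⟩

theorem Ext.fix_eq {L M : Subgroup G} (h : Ext p L M) {Q : Subgroup G} (hQ : Q ∈ syl p L) :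
    (fixS Q (conjs L M)).ncard = tt p L M := (h.count hQ).1

theorem Ext.mul_eq {L M : Subgroup G} (h : Ext p L M) :
    tt p L M * nS p L = vv L M * nS p M := by
  obtain ⟨Q, hQ⟩ := syl_nonempty p L
  exact (h.count hQ).2

theorem vv_mem {L M x : Subgroup G} (hx : x ∈ conjs L M) : vv L x = vv L M := by
  unfold vv; rw [conjs_eq_of_mem hx]

theorem Ext.tt_mem {L M x : Subgroup G} (h : Ext p L M) (hx : x ∈ conjs L M) :
    tt p L x = tt p L M := by unfold tt; rw [vv_mem hx, (h.mem hx).2.1]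

theorem Ext.tt_pos {L M : Subgroup G} (h : Ext p L M) : 1 ≤ tt p L M := by
  obtain ⟨Q, hQ⟩ := syl_nonempty p M
  rw [← h.fix_eq (mem_syl_of_full p h.full hQ)]
  exact (Set.ncard_pos (Set.toFinite _)).2 ⟨M, self_mem_conjs L M, hQ.2.1⟩

theorem Ext.tt_lt {L M : Subgroup G} (h : Ext p L M) : tt p L M < vv L M := by
  obtain ⟨Q, hQ⟩ := syl_nonempty p L
  rw [← h.fix_eq hQ]
  refine Set.ncard_lt_ncard ?_ (Set.toFinite _)
  refine (Set.ssubset_iff_subset_ne).2 ⟨fun x hx => hx.1, fun he => ?_⟩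
  refine h.ne (le_antisymm h.full.1 ?_)
  conv_lhs => rw [← h.genL]
  refine (Subgroup.closure_le _).2 fun g hg => ?_
  obtain ⟨k, hk⟩ := hg.2
  obtain ⟨Q', hQ', hgQ'⟩ := exists_syl_ge p (M := L) (S := Subgroup.zpowers g)
    (IsPGroup.of_card (n := k) (by rw [Nat.card_zpowers, hk]))
    (by rw [Subgroup.zpowers_le]; exact hg.1)
  have hall : fixS Q' (conjs L M) = conjs L M := by
    refine Set.eq_of_subset_of_ncard_le (fun x hx => hx.1) ?_ (Set.toFinite _)
    rw [Ext.fix_const hQ hQ', he]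
  have hm : M ∈ fixS Q' (conjs L M) := by rw [hall]; exact self_mem_conjs L M
  exact hm.2 (hgQ' (Subgroup.mem_zpowers g))

theorem Ext.vv_eq {L M : Subgroup G} (h : Ext p L M) :
    vv L M = tt p L M + p * ii p L M ∧ 1 ≤ ii p L M := by
  obtain ⟨Q, hQ⟩ := syl_nonempty p L
  have hmod := card_mod' p hQ.1 hQ.2.1 (Y := conjs L M)
    (fun g hg y hy => cj_mem_conjs (hQ.2.1 hg) hy) (fun y hy => (h.mem hy).1.full)
  rw [h.fix_eq hQ] at hmod
  have hdvd : p ∣ vv L M - tt p L M := (Nat.modEq_iff_dvd' h.tt_lt.le).1 hmod.symm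
  have he : p * ii p L M = vv L M - tt p L M := Nat.mul_div_cancel' hdvd
  have := h.tt_lt
  refine ⟨by omega, ?_⟩
  rcases Nat.eq_zero_or_pos (ii p L M) with h0 | h0
  · simp [h0] at he; omega
  · exact h0

theorem Ext.not_dvd_tt {L M : Subgroup G} (h : Ext p L M) : ¬ p ∣ tt p L M := by
  obtain ⟨Q, hQM⟩ := syl_nonempty p M
  have hQ := mem_syl_of_full p h.full hQM
  letI : MulAction G (Subgroup G) := cjAction
  let N : Subgroup G := Subgroup.normalizer (Q : Set G) ⊓ L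
  have horb : MulAction.orbit N M = fixS Q (conjs L M) := by
    ext x
    constructor
    · rintro ⟨⟨g, hg⟩, rfl⟩
      refine ⟨⟨g, hg.2, rfl⟩, ?_⟩
      intro a ha
      show a ∈ cj g M
      rw [mem_cj]
      exact hQM.2.1 ((Subgroup.mem_normalizer_iff''.1 hg.1 a).1 ha)
    · rintro ⟨⟨g, hg, rfl⟩, hQx⟩
      have h1 : cj g Q ∈ syl p (cj g M) := ⟨hQM.1.map _, hQM.2.cj g⟩
      have h2 : Q ∈ syl p (cj g M) :=
        ⟨hQ.1, hQ.2.left hQx (h.mem ⟨g, hg, rfl⟩).1.full.1⟩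
      obtain ⟨a, ha, haQ⟩ := syl_conj p h1 h2
      have haL : a ∈ L := (h.mem ⟨g, hg, rfl⟩).1.full.1 ha
      refine ⟨⟨a * g, ?_, L.mul_mem haL hg⟩, ?_⟩
      · show a * g ∈ Subgroup.normalizer (Q : Set G)
        rw [Subgroup.mem_normalizer_iff]
        intro b
        rw [← cj_mul] at haQ
        conv_rhs => rw [← haQ, mem_cj]
        simp [mul_assoc]
      · show cj (a * g) M = cj g M
        rw [cj_mul, cj_mem_of_mem ha]
  have hidx := MulAction.index_stabilizer N M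
  rw [horb, h.fix_eq hQ] at hidx
  intro hd
  refine hQ.2.2 (hd.trans ?_)
  have hle : Q ≤ (MulAction.stabilizer N M).map N.subtype := by
    intro a ha
    refine ⟨⟨a, Subgroup.le_normalizer ha, hQ.2.1 ha⟩, ?_, rfl⟩
    exact cj_mem_of_mem (hQM.2.1 ha)
  rw [← hidx]
  have h1 : ((MulAction.stabilizer N M).map N.subtype).relIndex N =
      (MulAction.stabilizer N M).index := by
    rw [Subgroup.relIndex, Subgroup.subgroupOf,
      comap_map_eq_self_of_injective N.subtype_injective]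
  rw [← h1]
  refine (relIndex_dvd_of_le_left _ hle).trans ?_
  exact Dvd.intro _ (relIndex_mul_relIndex Q N L
    (le_inf Subgroup.le_normalizer hQ.2.1) inf_le_right)

variable (p) in
/-- The orbit lemma. -/
theorem orbit_lemma {L E : Subgroup G} (hE : Full p E L) (hgenE : R p E = E)
    {Y : Set (Subgroup G)} (hfull : ∀ y ∈ Y, Full p y L)
    (hinv : ∀ e ∈ E, ∀ y ∈ Y, cj e y ∈ Y) (hnot : ∀ y ∈ Y, ¬ E ≤ y)
    {Q : Subgroup G} (hQ : Q ∈ syl p E) {f : ℕ} (hf : (fixS Q Y).ncard = f)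
    (hcard : Y.ncard = f + p) :
    (∀ y ∈ Y, ∀ y' ∈ Y, ∃ e ∈ E, cj e y = y') ∧
    (1 ≤ f → ∀ y ∈ Y, Ext p E (R p (E ⊓ y)) ∧ vv E (R p (E ⊓ y)) = f + p ∧
      tt p E (R p (E ⊓ y)) = f ∧ ∀ y' ∈ Y, R p (E ⊓ y) ≤ y' → y' = y) := by
  have hp : p.Prime := Fact.out
  have hYiff : ∀ e ∈ E, ∀ y, cj e y ∈ Y ↔ y ∈ Y := fun e he y =>
    ⟨fun h => by simpa [cj_inv_cj] using hinv _ (E.inv_mem he) _ h, hinv e he y⟩
  have horbmem : ∀ y ∈ Y, conjs E y ⊆ Y := by
    rintro y hy _ ⟨e, he, rfl⟩; exact hinv e he y hy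
  have hmoved : ∀ y ∈ Y, p ≤ (conjs E y \ fixS Q Y).ncard := by
    intro y hy
    have hne : (conjs E y \ fixS Q Y).Nonempty := by
      rw [Set.nonempty_iff_ne_empty]
      intro hem
      refine hnot y hy ?_
      conv_lhs => rw [← hgenE]
      refine (Subgroup.closure_le _).2 fun g hg => ?_
      obtain ⟨Q', hQ', hgQ'⟩ := exists_syl_ge p (M := E) (S := Subgroup.zpowers g) (by
        obtain ⟨k, hk⟩ := hg.2
        exact IsPGroup.of_card (n := k) (by rw [Nat.card_zpowers, hk]))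
        (by rw [Subgroup.zpowers_le]; exact hg.1)
      obtain ⟨e, he, rfl⟩ := syl_conj p hQ hQ'
      have h1 : cj e⁻¹ y ∈ fixS Q Y := by
        by_contra hc
        exact Set.eq_empty_iff_forall_notMem.1 hem _ ⟨⟨e⁻¹, E.inv_mem he, rfl⟩, hc⟩
      have h2 := cj_mono e h1.2
      rw [cj_cj_inv] at h2
      exact h2 (hgQ' (Subgroup.mem_zpowers g))
    have hmod := card_mod' p hQ.1 (hQ.2.1.trans hE.1) (Y := conjs E y \ fixS Q Y)
      (fun g hg z hz => ⟨cj_mem_conjs (hQ.2.1 hg) hz.1, fun hc => hz.2 (by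
        have : cj g z = z := by
          apply cj_injective g
          rw [cj_mem_of_mem (hc.2 hg)]
        rwa [this] at hc)⟩)
      (fun z hz => hfull z (horbmem y hy hz.1))
    have h0 : fixS Q (conjs E y \ fixS Q Y) = ∅ := by
      rw [Set.eq_empty_iff_forall_notMem]
      rintro z ⟨hz, hQz⟩
      exact hz.2 ⟨horbmem y hy hz.1, hQz⟩
    rw [h0, Set.ncard_empty] at hmod
    exact Nat.le_of_dvd ((Set.ncard_pos (Set.toFinite _)).2 hne) (Nat.modEq_zero_iff_dvd.1 hmod)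
  have htrans : ∀ y ∈ Y, ∀ y' ∈ Y, ∃ e ∈ E, cj e y = y' := by
    intro y hy y' hy'
    by_contra hc
    have hdis : Disjoint (conjs E y \ fixS Q Y) (conjs E y' \ fixS Q Y) := by
      rw [Set.disjoint_left]
      rintro z ⟨⟨a, ha, rfl⟩, -⟩ ⟨⟨b, hb, hab⟩, -⟩
      refine hc ⟨b⁻¹ * a, E.mul_mem (E.inv_mem hb) ha, ?_⟩
      simp only at hab
      rw [cj_mul, ← hab, cj_inv_cj]
    have hsub : (conjs E y \ fixS Q Y) ∪ (conjs E y' \ fixS Q Y) ⊆ Y \ fixS Q Y :=
      Set.union_subset (Set.sdiff_subset_sdiff_left (horbmem y hy))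
        (Set.sdiff_subset_sdiff_left (horbmem y' hy'))
    have h1 := Set.ncard_le_ncard hsub (Set.toFinite _)
    rw [Set.ncard_union_eq hdis (Set.toFinite _) (Set.toFinite _)] at h1
    rw [Set.ncard_sdiff (s := fixS Q Y) (t := Y) (fun z hz => hz.1) (Set.toFinite _)] at h1
    have := hmoved y hy
    have := hmoved y' hy'
    have := hp.two_le
    omega
  refine ⟨htrans, fun hf1 => ?_⟩
  obtain ⟨y0, hy0⟩ : (fixS Q Y).Nonempty := (Set.ncard_pos (Set.toFinite _)).1 (hf ▸ hf1)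
  intro y hy
  obtain ⟨e0, he0, rfl⟩ := htrans y0 hy0.1 y hy
  set T := R p (E ⊓ cj e0 y0) with hT
  have hQ1 : cj e0 Q ∈ syl p E := by
    refine ⟨hQ.1.map _, ?_⟩
    have := hQ.2.cj e0
    rwa [cj_mem_of_mem he0] at this
  have hQT : cj e0 Q ≤ T :=
    le_R_of_gen p (R_of_pgroup p hQ1.1) (le_inf hQ1.2.1 (cj_mono e0 hy0.2))
  have hTE : T ≤ E := (R_le p _).trans inf_le_left
  have hExt : Ext p E T := by
    refine ⟨hQ1.2.right hQT hTE, fun hc => hnot _ hy ?_, hgenE, R_R p _⟩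
    rw [← hc]; exact (R_le p _).trans inf_le_right
  let φ : Subgroup G → Subgroup G := fun z => R p (E ⊓ z)
  have hφ : ∀ e ∈ E, ∀ z, φ (cj e z) = cj e (φ z) := by
    intro e he z
    simp only [φ]
    rw [← R_cj, cj_inf, cj_mem_of_mem he]
  have himg : ∀ z ∈ Y, φ z ∈ conjs E T := by
    intro z hz
    obtain ⟨e, he, rfl⟩ := htrans _ hy z hz
    exact ⟨e, he, (hφ e he _).symm⟩
  set k := {z ∈ Y | φ z = T}.ncard with hk
  have hfib : ∀ T' ∈ conjs E T, {z ∈ Y | φ z = T'}.ncard = k := by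
    rintro _ ⟨e, he, rfl⟩
    rw [hk, ← Set.ncard_image_of_injective {z ∈ Y | φ z = T} (cj_injective e)]
    congr 1
    ext z
    constructor
    · rintro ⟨h1, h2⟩
      refine ⟨cj e⁻¹ z, ⟨hinv _ (E.inv_mem he) _ h1, ?_⟩, cj_cj_inv e z⟩
      rw [hφ _ (E.inv_mem he), h2, cj_inv_cj]
    · rintro ⟨z, ⟨h1, h2⟩, rfl⟩
      exact ⟨hinv e he _ h1, by rw [hφ e he, h2]⟩
  have hfix : fixS Q Y = {z ∈ Y | φ z ∈ fixS Q (conjs E T)} := by
    ext z
    constructor
    · rintro ⟨h1, h2⟩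
      exact ⟨h1, himg z h1, le_R_of_gen p (R_of_pgroup p hQ.1) (le_inf hQ.2.1 h2)⟩
    · rintro ⟨h1, -, h2⟩
      exact ⟨h1, h2.trans ((R_le p _).trans inf_le_right)⟩
  have hmul : ∀ S : Set (Subgroup G), S ⊆ conjs E T →
      {z ∈ Y | φ z ∈ S}.ncard = S.ncard * k := by
    intro S hS
    induction S, Set.toFinite S using Set.Finite.induction_on with
    | empty => simp
    | @insert a S ha _ ih =>
      have hu : {z ∈ Y | φ z ∈ insert a S} = {z ∈ Y | φ z = a} ∪ {z ∈ Y | φ z ∈ S} := by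
        ext z
        simp only [Set.mem_setOf_eq, Set.mem_insert_iff, Set.mem_union]
        tauto
      have hd : Disjoint {z ∈ Y | φ z = a} {z ∈ Y | φ z ∈ S} := by
        rw [Set.disjoint_left]; rintro z ⟨-, h1⟩ ⟨-, h2⟩; exact ha (h1 ▸ h2)
      rw [hu, Set.ncard_union_eq hd (Set.toFinite _) (Set.toFinite _),
        hfib a (hS (Set.mem_insert a S)), ih ((Set.subset_insert a S).trans hS),
        Set.ncard_insert_of_notMem ha (Set.toFinite _)]
      ring
  have hall : {z ∈ Y | φ z ∈ conjs E T} = Y := by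
    ext z; exact ⟨fun h => h.1, fun h => ⟨h, himg z h⟩⟩
  have h1 : f + p = vv E T * k := by
    rw [← hcard, ← congrArg Set.ncard hall, hmul _ subset_rfl]; rfl
  have h2 : f = tt p E T * k := by
    rw [← hf, hfix, hmul _ (fun z hz => hz.1), hExt.fix_eq hQ]
  obtain ⟨h3, h4⟩ := hExt.vv_eq
  rw [h3, add_mul, ← h2] at h1
  have h5 : ii p E T * k = 1 := by
    have : p * (ii p E T * k) = p * 1 := by rw [mul_one, ← mul_assoc]; omega
    exact Nat.eq_of_mul_eq_mul_left hp.pos this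
  have hk1 : k = 1 := Nat.eq_one_of_mul_eq_one_left h5
  have hi1 : ii p E T = 1 := Nat.eq_one_of_mul_eq_one_right h5
  rw [hk1, mul_one] at h2
  refine ⟨hExt, ?_, h2.symm, ?_⟩
  · rw [h3, hi1, ← h2, mul_one]
  · intro z hz hTz
    have h6 : φ z = T := by
      refine (hExt.eq_of_le (self_mem_conjs E T) (himg z hz) ?_).symm
      exact le_R_of_gen p (R_R p _) (le_inf hTE hTz)
    obtain ⟨u, hu⟩ := Set.ncard_eq_one.1 hk1
    have hzu : z ∈ ({u} : Set (Subgroup G)) := hu ▸ ⟨hz, h6⟩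
    have hyu : cj e0 y0 ∈ ({u} : Set (Subgroup G)) := hu ▸ ⟨hy, rfl⟩
    rw [Set.mem_singleton_iff] at hzu hyu
    rw [hzu, hyu]

end CfsgLib.SylRatio
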