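import Cfsg.Agent.Lib.SylowRatio.NonClique

/-!
The induction and the final bound.
-/

set_option autoImplicit false

namespace CfsgLib.SylRatio

open Subgroup

variable {G : Type*} [Group G] [Finite G] {p : ℕ} [Fact p.Prime] {L M : Subgroup G}

theorem Ctx.one_false (C : Ctx p L M) {a b : Subgroup G} (S : Small p L M 1 a b) : False := by
  obtain ⟨hDa, -, hma, -, -, hratio⟩ := S.ext_D C
  have hp := C.hp3
  have hDb : Small p L M 1 b a := (C.small_line S S.mem_line.2 S.mem_line.1 (Ne.symm S.hne)).2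
  obtain ⟨hDb', -, hmb, -, -, hratb⟩ := hDb.ext_D C
  have hba : R p (b ⊓ a) = R p (a ⊓ b) := by rw [inf_comm]
  have hbv := hDb.hv
  have hbt := hDb.ht
  rw [hba] at hDb' hbv hbt hmb hratb
  set D := R p (a ⊓ b) with hD
  refine C.clique_false S fun D' hD' hne c hc => ?_
  by_contra hnc
  obtain ⟨Sc, hRc, -, -⟩ := C.other_class S hD' hc
  have hbc : b ≠ c := by rintro rfl; exact hne hRc.symm
  set E := R p (b ⊓ c) with hE
  have haL := (C.ext.mem S.ha).1.full
  have hbL := (C.ext.mem S.hb).1.full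
  by_cases hEcov : Full p E L
  · -- two classes at `a` share a Sylow subgroup
    obtain ⟨hEb, -, -, hatE⟩ := C.pair S.hb hc.1 hbc hEcov
    obtain ⟨Q', hQ'⟩ := syl_nonempty p E
    have hQ'b := mem_syl_of_full p hEb.full hQ'
    have horb := orbit_lemma p (L := L) hEcov (R_R p _) (Y := conjs b D)
      (fun y hy => (hDb'.mem hy).1.full_L hbL)
      (fun e he y hy => cj_mem_conjs (hEb.full.1 he) hy)
      (fun y hy hle => by
        rcases hatE y (hDb'.mem hy).1.genM hle (hDb'.mem hy).1.full.1 with h | h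
        · rw [h] at hy; exact hnc hy
        · exact (hDb'.mem hy).1.ne h)
      hQ' (by rw [hDb'.fix_eq hQ'b]; exact hbt) hbv
    obtain ⟨hExtE, -, -, -⟩ := horb.2 le_rfl D (self_mem_conjs b D)
    obtain ⟨Q, hQ⟩ := syl_nonempty p (R p (E ⊓ D))
    have hQD : Q ≤ D := hQ.2.1.trans ((R_le p _).trans inf_le_right)
    have hQc : Q ≤ c := hQ.2.1.trans (((R_le p _).trans inf_le_left).trans
      ((R_le p _).trans inf_le_right))
    have hQL : Q ∈ syl p L := mem_syl_of_full p hEcov (mem_syl_of_full p hExtE.full hQ)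
    have hQa : Q ≤ a := hQD.trans hDa.full.1
    have hQsa : Q ∈ syl p a := ⟨hQL.1, hQL.2.left hQa haL.1⟩
    have hQD' : Q ≤ D' := by
      rw [← hRc]; exact le_R_of_gen p (R_of_pgroup p hQL.1) (le_inf hQa hQc)
    have h1 := hDa.fix_eq hQsa
    rw [S.ht] at h1
    have h2 : ({D, D'} : Set (Subgroup G)) ⊆ fixS Q (conjs a D) :=
      Set.insert_subset ⟨self_mem_conjs a D, hQD⟩ (Set.singleton_subset_iff.2 ⟨hD', hQD'⟩)
    have h3 := Set.ncard_le_ncard h2 (Set.toFinite _)
    rw [Set.ncard_pair (Ne.symm hne), h1] at h3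
    omega
  · -- a free point at `b`
    obtain ⟨Q, hQ⟩ := syl_nonempty p b
    have hQL := mem_syl_of_full p hbL hQ
    have hw1 := C.ext.class_free C.good S.hb hDb' hc.1 hEcov
    rw [hmb] at hw1
    have hfw : 1 ≤ (fib p (conjs L M) b D).ncard :=
      (Set.ncard_pos (Set.toFinite _)).2 ⟨a, S.ha, S.hne, hba⟩
    have hw : (fib p (conjs L M) b D).ncard = 1 := by
      by_contra hlt
      have h2 : (2 : ℤ) ≤ (fib p (conjs L M) b D).ncard := by
        exact_mod_cast (by omega : 2 ≤ (fib p (conjs L M) b D).ncard)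
      have h3 := mul_le_mul_of_nonneg_right h2 (show (0 : ℤ) ≤ (p : ℤ) - 1 - 1 by linarith)
      have := C.hm
      push_cast at hw1
      linarith
    have hfix : (fixS Q (cls p (conjs L M) b D)).ncard = 1 := by
      rw [C.ext.fixS_cls S.hb hDb' hQ, hw, hbt]
    -- another covered pair
    obtain ⟨y, ⟨hy, hQy⟩, hynot⟩ : ((fixS Q (conjs L M)) \
        (insert b (fixS Q (cls p (conjs L M) b D)))).Nonempty := by
      rw [Set.nonempty_iff_ne_empty]
      intro he
      rw [Set.sdiff_eq_empty] at he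
      have h1 := Set.ncard_le_ncard he (Set.toFinite _)
      rw [C.ext.fix_eq hQL] at h1
      have h2 := Set.ncard_insert_le b (fixS Q (cls p (conjs L M) b D))
      have := C.ht
      have := two_le_p (p := p)
      omega
    simp only [Set.mem_insert_iff, not_or] at hynot
    obtain ⟨hyb, hycls⟩ := hynot
    have hcov : Full p (R p (b ⊓ y)) L := C.ext.cov_of_fix S.hb hQ hQy
    obtain ⟨hD2, h02, -, -⟩ := C.pair S.hb hy (Ne.symm hyb) hcov
    set D2 := R p (b ⊓ y) with hD2def
    have hD2notin : D2 ∉ conjs b D := fun h => hycls ⟨⟨hy, hyb, h⟩, hQy⟩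
    have hw2 : (1 : ℤ) ≤ (fib p (conjs L M) b D2).ncard := by
      have h4 : (fib p (conjs L M) b D2).Nonempty := ⟨y, hy, hyb, rfl⟩
      exact_mod_cast (Set.ncard_pos (Set.toFinite _)).2 h4
    have hfree2 := C.ext.class_free C.good S.hb hD2 hc.1 hEcov
    have hm2 : mm p b D2 ≤ (p : ℤ) - 2 := by
      have h5 := mul_le_mul_of_nonneg_right hw2 h02
      linarith [C.hm]
    have hi2 := (C.good b (C.ext.card_conj_lt S.hb) D2 hD2).2.1 C.odd hm2
    have hv2 : vv b D2 = tt p b D2 + p := by rw [hD2.vv_eq.1, hi2, mul_one]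
    have S2 : Small p L M (tt p b D2) b y := ⟨S.hb, hy, Ne.symm hyb, hcov, hv2, rfl⟩
    obtain ⟨-, -, hm2', hf2, -, hrat2⟩ := S2.ext_D C
    by_cases hf : 2 ≤ tt p b D2
    · exact C.ge_two_false _ b y S2 hf
    -- two classes with one fixed point and a free point
    have hf1 : tt p b D2 = 1 := by omega
    rw [hf1] at hrat2
    rw [← hD2def] at hrat2
    have hn2 : (nS p D2 : ℤ) = nS p D := by
      have h0 : ((1 : ℕ) : ℤ) + (p : ℤ) ≠ 0 := by push_cast; linarith
      exact mul_right_cancel₀ h0 (hrat2.trans hratb.symm)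
    set F := {z ∈ conjs L M | z ≠ b ∧ ¬ Full p (R p (b ⊓ z)) L} with hF
    set K := cls p (conjs L M) b D ∪ cls p (conjs L M) b D2 with hK
    have htwo := C.ext.cost_two C.good S.hb (S1 := K) (S2 := F)
      (c1 := ((p : ℤ) - 1) * nS p b - (2 * (p : ℤ) - 1) * nS p D)
      (c2 := ((p : ℤ) - 1) * nS p b)
      (fun z hz => by
        rcases hz with hz | hz
        · exact ⟨hz.1, hz.2.1, (C.ext.mem_cls S.hb hDb' hz).2⟩
        · exact ⟨hz.1, hz.2.1, by rw [(C.ext.mem_cls S.hb hD2 hz).2, hn2]⟩)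
      (fun z hz => ⟨hz.1, hz.2.1, C.ext.cst_free S.hb hz.2.2⟩)
      (fun z hz hz' => by
        rcases hz with hz | hz
        · exact hz'.2.2 (C.ext.mem_cls S.hb hDb' hz).1
        · exact hz'.2.2 (C.ext.mem_cls S.hb hD2 hz).1)
    have hdisj : Disjoint (cls p (conjs L M) b D) (cls p (conjs L M) b D2) := by
      rw [Set.disjoint_left]
      intro z hz hz'
      exact hD2notin (by
        rw [← conjs_eq_of_mem hz.2.2, conjs_eq_of_mem hz'.2.2]; exact self_mem_conjs b D2)
    have hKcard : 2 * (1 + p) ≤ K.ncard := by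
      rw [hK, Set.ncard_union_eq hdisj (Set.toFinite _) (Set.toFinite _),
        C.ext.cls_card S.hb, C.ext.cls_card S.hb, hw, hbv, hv2, hf1]
      have hw2' : 1 ≤ (fib p (conjs L M) b D2).ncard := by exact_mod_cast hw2
      have := Nat.mul_le_mul_left (1 + p) hw2'
      omega
    have hFcard : p ≤ F.ncard := C.ext.free_card S.hb hc.1 hEcov
    have hn : (0 : ℤ) < nS p b := by exact_mod_cast nS_pos p b
    push_cast at hratb
    set cD : ℤ := ((p : ℤ) - 1) * nS p b - (2 * (p : ℤ) - 1) * nS p D with hcD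
    have hcD' : cD * (1 + p) = p * ((p : ℤ) - 2) * nS p b := by
      have : (2 * (p : ℤ) - 1) * nS p D * (1 + p) = (2 * p - 1) * (1 * nS p b) := by
        rw [← hratb]; ring
      rw [hcD, sub_mul, this]; ring
    have hc0 : 0 ≤ cD := by
      have := (C.good b (C.ext.card_conj_lt S.hb) D hDb').1
      unfold MT at this
      rw [hcD]; linarith
    have hK' : (2 * (1 + p) : ℤ) * cD ≤ (K.ncard : ℤ) * cD :=
      mul_le_mul_of_nonneg_right (by exact_mod_cast hKcard) hc0
    have hF' : (p : ℤ) * (((p : ℤ) - 1) * nS p b) ≤ (F.ncard : ℤ) * (((p : ℤ) - 1) * nS p b) :=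
      mul_le_mul_of_nonneg_right (by exact_mod_cast hFcard) (mul_nonneg (by linarith) hn.le)
    have hfin : (p : ℤ) * nS p b * (2 * ((p : ℤ) - 2) + ((p : ℤ) - 1)) ≤
        p * nS p b * (mm p L M + 1) := by
      calc (p : ℤ) * nS p b * (2 * ((p : ℤ) - 2) + ((p : ℤ) - 1))
          = 2 * (cD * (1 + p)) + (p : ℤ) * (((p : ℤ) - 1) * nS p b) := by rw [hcD']; ring
        _ ≤ _ := by linarith
    have := le_of_mul_le_mul_left hfin (mul_pos (by linarith) hn)
    linarith [C.hm]

theorem Ctx.no_small (C : Ctx p L M) {x y : Subgroup G} (hx : x ∈ conjs L M)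
    (hy : y ∈ conjs L M) (hxy : x ≠ y) (hcov : Full p (R p (x ⊓ y)) L)
    (hv : vv x (R p (x ⊓ y)) = tt p x (R p (x ⊓ y)) + p) : False := by
  have S : Small p L M (tt p x (R p (x ⊓ y))) x y := ⟨hx, hy, hxy, hcov, hv, rfl⟩
  obtain ⟨-, -, -, hf1, -, -⟩ := S.ext_D C
  by_cases hf : 2 ≤ tt p x (R p (x ⊓ y))
  · exact C.ge_two_false _ x y S hf
  · have : tt p x (R p (x ⊓ y)) = 1 := by omega
    exact C.one_false (this ▸ S)

/-- the chain argument -/
theorem cc (hodd : p ≠ 2) : ∀ n : ℕ, ∀ L M : Subgroup G, Nat.card L = n → Ext p L M →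
    GoodBelow p L → Atom p L M → p + 1 ≤ tt p L M →
    mm p L M + ((tt p L M % p : ℕ) : ℤ) ≤ 2 * (p : ℤ) - 3 → False := by
  intro n
  induction n using Nat.strong_induction_on with
  | _ n IH =>
  intro L M hn h hgood hatom ht hm
  have hp : p.Prime := Fact.out
  have hr : 1 ≤ tt p L M % p := by
    rcases Nat.eq_zero_or_pos (tt p L M % p) with h0 | h0
    · exact absurd (Nat.dvd_of_mod_eq_zero h0) h.not_dvd_tt
    · exact h0
  have hr' : (1 : ℤ) ≤ ((tt p L M % p : ℕ) : ℤ) := by exact_mod_cast hr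
  have C : Ctx p L M := ⟨h, hgood, hodd, ht, by linarith, hatom⟩
  have hp3 := C.hp3
  have hx : M ∈ conjs L M := self_mem_conjs L M
  obtain ⟨Q, hQ⟩ := syl_nonempty p M
  have hQL := mem_syl_of_full p h.full hQ
  obtain ⟨y, ⟨hy, hQy⟩, hyM⟩ : (fixS Q (conjs L M) \ {M}).Nonempty := by
    refine (Set.ncard_pos (Set.toFinite _)).1 ?_
    have hMf : M ∈ fixS Q (conjs L M) := ⟨hx, hQ.2.1⟩
    have := Set.ncard_sdiff_singleton_add_one hMf (Set.toFinite _)
    rw [h.fix_eq hQL] at this
    have := hp.two_le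
    omega
  rw [Set.mem_singleton_iff] at hyM
  have hcov : Full p (R p (M ⊓ y)) L := h.cov_of_fix hx hQ hQy
  -- every child is big
  have hbig : ∀ z ∈ conjs L M, z ≠ M → Full p (R p (M ⊓ z)) L →
      Ext p M (R p (M ⊓ z)) ∧ (p : ℤ) - 1 ≤ mm p M (R p (M ⊓ z)) := by
    intro z hz hzM hc
    obtain ⟨hD, -, -, -⟩ := C.pair hx hz (Ne.symm hzM) hc
    refine ⟨hD, ?_⟩
    by_contra hlt
    have hi := (hgood M h.card_lt _ hD).2.1 hodd (by linarith)
    exact C.no_small hx hz (Ne.symm hzM) hc (by rw [hD.vv_eq.1, hi, mul_one])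
  obtain ⟨hD, hmD⟩ := hbig y hy hyM hcov
  set D := R p (M ⊓ y) with hDdef
  have hfib : (fib p (conjs L M) M D).ncard = 1 := by
    have h1 := h.class_one hgood hx hD
    have h2 : (fib p (conjs L M) M D).Nonempty := ⟨y, hy, hyM, rfl⟩
    have h3 := (Set.ncard_pos (Set.toFinite _)).2 h2
    by_contra hne
    have h4 : (2 : ℤ) ≤ (fib p (conjs L M) M D).ncard := by
      exact_mod_cast (by omega : 2 ≤ (fib p (conjs L M) M D).ncard)
    have h5 := mul_le_mul h4 hmD (by linarith) (by linarith)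
    linarith
  have hall : conjs L M \ {M} = cls p (conjs L M) M D := by
    refine Set.Subset.antisymm ?_ fun z hz => ⟨hz.1, hz.2.1⟩
    rintro z ⟨hz, hzM⟩
    rw [Set.mem_singleton_iff] at hzM
    refine ⟨hz, hzM, ?_⟩
    by_cases hc : Full p (R p (M ⊓ z)) L
    · obtain ⟨hD2, hm2⟩ := hbig z hz hzM hc
      by_contra hnot
      have h1 := h.class_two hgood hx hD hD2 hnot
      have h2 : (1 : ℤ) ≤ (fib p (conjs L M) M (R p (M ⊓ z))).ncard := by
        have h4 : (fib p (conjs L M) M (R p (M ⊓ z))).Nonempty := ⟨z, hz, hzM, rfl⟩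
        exact_mod_cast (Set.ncard_pos (Set.toFinite _)).2 h4
      rw [hfib, Nat.cast_one, one_mul] at h1
      have h5 := mul_le_mul h2 hm2 (by linarith) (by linarith)
      linarith
    · have h1 := h.class_free hgood hx hD hz hc
      rw [hfib, Nat.cast_one, one_mul] at h1
      linarith
  have hv : vv L M = vv M D + 1 := by
    have h1 := congrArg Set.ncard hall
    rw [h.cls_card hx, hfib, mul_one] at h1
    have := Set.ncard_sdiff_singleton_add_one hx (Set.toFinite _)
    unfold vv at h1 ⊢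
    omega
  have htD : tt p L M = tt p M D + 1 := by
    have h1 : fixS Q (conjs L M) \ {M} = fixS Q (cls p (conjs L M) M D) := by
      rw [← hall]; ext z; simp [fixS]; tauto
    have hMf : M ∈ fixS Q (conjs L M) := ⟨hx, hQ.2.1⟩
    have := Set.ncard_sdiff_singleton_add_one hMf (Set.toFinite _)
    rw [h1, h.fixS_cls hx hD hQ, hfib, mul_one, h.fix_eq hQL] at this
    omega
  have hmm : mm p M D = mm p L M + 1 := by
    have h1 := h.vv_eq.1
    have h2 := hD.vv_eq.1
    have h3 : ii p M D = ii p L M := by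
      have : p * ii p M D = p * ii p L M := by omega
      exact Nat.eq_of_mul_eq_mul_left hp.pos this
    unfold mm
    rw [h3, htD]; push_cast; ring
  have hmod : tt p L M % p = (tt p M D % p + 1) % p := by
    rw [htD, Nat.add_mod, Nat.one_mod_eq_one.2 hp.ne_one]
  have hDr := hD.not_dvd_tt
  have hlt : tt p M D % p < p := Nat.mod_lt _ hp.pos
  have hD0 : tt p M D % p ≠ 0 := fun h0 => hDr (Nat.dvd_of_mod_eq_zero h0)
  have hnext : tt p M D % p + 1 = tt p L M % p := by
    by_cases h1 : tt p M D % p + 1 < p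
    · rw [hmod, Nat.mod_eq_of_lt h1]
    · have : tt p M D % p + 1 = p := by omega
      rw [hmod, this, Nat.mod_self] at hr
      omega
  have htD' : p + 1 ≤ tt p M D := by
    by_contra hlt'
    have hDp : tt p M D = p := by omega
    exact hDr (by rw [hDp])
  refine IH (Nat.card M) (hn ▸ h.card_lt) M D rfl hD
    (fun L' hL' => hgood L' (hL'.trans h.card_lt))
    (atom_below hgood h.card_lt hD (by rw [hmm]; linarith)) htD' ?_
  rw [hmm]
  have : ((tt p M D % p : ℕ) : ℤ) + 1 = ((tt p L M % p : ℕ) : ℤ) := by exact_mod_cast hnext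
  linarith

theorem ns_of (h : Ext p L M) (hgood : GoodBelow p L)
    (hup : ∀ M', Ext p L M' → M < M' → MT p L M') : NS p L M := by
  intro hodd ht hm x hx y hy hxy hcov hv
  have hat : Atom p L M := atom_of_mt h hup
    (fun M' h' hlt => (hgood M' hlt M h').1) (by linarith)
  exact (Ctx.no_small ⟨h, hgood, hodd, ht, hm, hat⟩ hx hy hxy hcov hv)

/-- defect at most `p - 2` with several moved blocks is impossible -/
theorem small_defect (h : Ext p L M) (hgood : GoodBelow p L) (hat : Atom p L M) (hodd : p ≠ 2)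
    (hm : mm p L M ≤ (p : ℤ) - 2) (hi : ii p L M ≠ 1) : False := by
  have hp : p.Prime := Fact.out
  obtain ⟨-, hi1⟩ := h.vv_eq
  have hi2 : (2 : ℤ) ≤ ii p L M := by exact_mod_cast (by omega : 2 ≤ ii p L M)
  have hp2 : (2 : ℤ) ≤ p := by exact_mod_cast hp.two_le
  have ht : (p : ℤ) ≤ tt p L M := by
    have h1 := mul_le_mul_of_nonneg_left hi2 (show (0 : ℤ) ≤ (p : ℤ) - 1 by linarith)
    unfold mm at hm
    linarith
  have ht' : p + 1 ≤ tt p L M := by
    have h1 : p ≤ tt p L M := by exact_mod_cast ht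
    by_contra hlt
    have : tt p L M = p := by omega
    exact h.not_dvd_tt (by rw [this])
  refine cc hodd _ L M rfl h hgood hat ht' ?_
  have : ((tt p L M % p : ℕ) : ℤ) + 1 ≤ p := by
    exact_mod_cast Nat.mod_lt (tt p L M) hp.pos
  linarith

theorem mt_step (h : Ext p L M) (hgood : GoodBelow p L)
    (hup : ∀ M', Ext p L M' → M < M' → MT p L M') : MT p L M := by
  classical
  have hp : p.Prime := Fact.out
  by_cases hat : Atom p L M
  swap
  · -- product of two steps
    unfold Atom at hat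
    push Not at hat
    obtain ⟨M', hgen, hle, hleL, hne, hneL⟩ := hat
    have h2 : Ext p L M' := ⟨h.full.right hle hleL, hneL, h.genL, hgen⟩
    have h1 : Ext p M' M := ⟨h.full.left hle hleL, Ne.symm hne, hgen, h.genM⟩
    have hA := hup M' h2 (lt_of_le_of_ne hle (Ne.symm hne))
    have hB := (hgood M' h2.card_lt M h1).1
    unfold MT at hA hB ⊢
    have hp2 : (2 : ℤ) ≤ p := by exact_mod_cast hp.two_le
    have hn : (0 : ℤ) ≤ nS p M' := Int.natCast_nonneg _
    have h3 : ((p : ℤ) - 1) * nS p M' ≤ (2 * (p : ℤ) - 1) * nS p M' :=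
      mul_le_mul_of_nonneg_right (by linarith) hn
    linarith
  rw [h.mt_iff]
  by_contra hneg
  rw [not_le] at hneg
  have hx : M ∈ conjs L M := self_mem_conjs L M
  have hsum := h.cost_sum hx
  have hn : (0 : ℤ) < p * nS p M := mul_pos (by exact_mod_cast hp.pos) h.nS_pos_int.1
  have hnn : ∀ z ∈ (Set.toFinite (conjs L M \ {M})).toFinset, (0 : ℤ) ≤ cst p M z := by
    intro z hz
    have hz' := (Set.Finite.mem_toFinset _).1 hz
    exact h.cst_nonneg hgood hx hz'.1 (fun hc => hz'.2 hc.symm)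
  have h0 : 0 ≤ mm p L M + 1 := by
    by_contra hlt
    rw [not_le] at hlt
    have := Finset.sum_nonneg hnn
    rw [hsum] at this
    have := mul_neg_of_pos_of_neg hn hlt
    linarith
  have hm1 : mm p L M = -1 := by omega
  by_cases hp2 : p = 2
  · -- every pair is covered, but some pair is swapped
    have hz : ∀ z ∈ conjs L M, z ≠ M → Full p (R p (M ⊓ z)) L := by
      intro z hz hzM
      by_contra hc
      have h1 := h.cst_free hx hc
      have h2 := Finset.single_le_sum hnn
        ((Set.Finite.mem_toFinset (Set.toFinite (conjs L M \ {M}))).2 ⟨hz, hzM⟩)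
      rw [hsum, hm1, h1] at h2
      have h3 := h.nS_pos_int.1
      have h4 : ((p : ℤ) - 1) = 1 := by rw [hp2]; norm_num
      rw [h4] at h2
      linarith
    obtain ⟨g, hg, hgp, hgM⟩ : ∃ g ∈ L, pel p g ∧ cj g M ≠ M := by
      by_contra hc
      push Not at hc
      refine h.ne (le_antisymm h.full.1 ?_)
      conv_lhs => rw [← h.genL]
      exact (Subgroup.closure_le _).2 fun g hg =>
        mem_of_normalizing p h.full hg.1 hg.2 (hc g hg.1 hg.2)
    obtain ⟨k, hk⟩ := hgp
    have hex : ∃ j : ℕ, cj (g ^ (2 ^ j)) M = M :=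
      ⟨k, by rw [show g ^ (2 ^ k) = 1 by rw [← hp2, ← hk, pow_orderOf_eq_one], cj_one]⟩
    have hj := Nat.find_spec hex
    have hj0 : Nat.find hex ≠ 0 := by
      intro h0'
      rw [h0', pow_zero, pow_one] at hj
      exact hgM hj
    obtain ⟨j, hj'⟩ := Nat.exists_eq_succ_of_ne_zero hj0
    set u := g ^ (2 ^ j) with hu
    have hmov : cj u M ≠ M := Nat.find_min hex (by omega)
    have hu2 : cj u (cj u M) = M := by
      rw [← cj_mul, hu, ← pow_add, ← two_mul, ← pow_succ']
      rw [hj'] at hj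
      exact hj
    have huL : u ∈ L := L.pow_mem hg _
    have hyX : cj u M ∈ conjs L M := ⟨u, huL, rfl⟩
    have hcv := hz _ hyX hmov
    have hfixD : cj u (R p (M ⊓ cj u M)) = R p (M ⊓ cj u M) := by
      rw [← R_cj_inf, hu2, inf_comm]
    have hup' : pel p u := by
      obtain ⟨l, -, hl⟩ := (Nat.dvd_prime_pow hp).1 (hk ▸ orderOf_pow_dvd (x := g) (2 ^ j))
      exact ⟨l, hl⟩
    exact hmov (cj_mem_of_mem
      ((R_le p _).trans inf_le_left (mem_of_normalizing p hcv huL hup' hfixD)))
  · have hp2' : (2 : ℤ) ≤ p := by exact_mod_cast hp.two_le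
    refine small_defect h hgood hat hp2 (by linarith) ?_
    intro hi
    unfold mm at hm1
    rw [hi] at hm1
    push_cast at hm1
    have : tt p L M = p := by omega
    exact h.not_dvd_tt (by rw [this])

variable (p) in
theorem good_all : ∀ n : ℕ, ∀ L : Subgroup G, Nat.card L = n → Good p L := by
  intro n
  induction n using Nat.strong_induction_on with
  | _ n IH =>
  intro L hn
  have hgood : GoodBelow p L := fun L' hL' => IH _ (hn ▸ hL') L' rfl
  have hmt : ∀ d : ℕ, ∀ M, Ext p L M → Nat.card L - Nat.card M = d → MT p L M := by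
    intro d
    induction d using Nat.strong_induction_on with
    | _ d IHd =>
    intro M h hd
    refine mt_step h hgood fun M' h' hlt => IHd (Nat.card L - Nat.card M') ?_ M' h' rfl
    have h1 : Nat.card M < Nat.card M' := by
      refine lt_of_le_of_ne (Subgroup.card_le_of_le hlt.le) fun hc => hlt.ne ?_
      exact Subgroup.eq_of_le_of_card_ge hlt.le hc.ge
    have := h'.card_lt
    omega
  intro M h
  have hup : ∀ M', Ext p L M' → M < M' → MT p L M' := fun M' h' _ => hmt _ M' h' rfl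
  refine ⟨hmt _ M h rfl, ?_, ns_of h hgood hup⟩
  intro hodd hm
  by_contra hi
  have hp2 : (2 : ℤ) ≤ p := by exact_mod_cast (Fact.out : p.Prime).two_le
  exact small_defect h hgood
    (atom_of_mt h hup (fun M' h' hlt => (hgood M' hlt M h').1) (by linarith)) hodd hm hi

variable (p) in
/-- The bound on the number of Sylow subgroups. -/
theorem sylow_bound (hgen : Subgroup.closure {g : G | ∃ k : ℕ, orderOf g = p ^ k} = ⊤)
    (H : Subgroup G) (hH : H ≠ ⊤) (P : Sylow p G) (hP : (P : Subgroup G) ≤ H) :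
    (2 * p - 1) * Nat.card (Sylow p ↥H) ≤ (p - 1) * Nat.card (Sylow p G) := by
  have hR : R p (⊤ : Subgroup G) = ⊤ := by
    rw [← hgen]
    refine le_antisymm (hgen ▸ le_top) ((Subgroup.closure_le _).2 fun g hg => ?_)
    exact mem_R p (hgen.symm ▸ Subgroup.mem_top g) hg
  have hHfull : Full p H ⊤ := by
    refine ⟨le_top, ?_⟩
    rw [Subgroup.relIndex_top_right]
    exact fun hd => P.not_dvd_index (hd.trans (Subgroup.index_dvd_of_le hP))
  have h : Ext p ⊤ (R p H) := by
    refine ⟨(R_full p H).trans Fact.out hHfull, fun hc => hH ?_, hR, R_R p H⟩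
    exact eq_top_iff.2 (hc ▸ R_le p H)
  have hmt := (good_all p _ ⊤ rfl _ h).1
  unfold MT at hmt
  rw [nS_R, nS_eq_card p H] at hmt
  have htop : nS p (⊤ : Subgroup G) = Nat.card (Sylow p G) := by
    unfold nS
    rw [← Nat.card_coe_set_eq]
    refine Nat.card_congr
      { toFun := fun Q => Q.2.1.toSylow (by simpa [Subgroup.relIndex_top_right] using Q.2.2.2)
        invFun := fun P => ⟨(P : Subgroup G), P.2, le_top,
          by simpa [Subgroup.relIndex_top_right] using P.not_dvd_index⟩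
        left_inv := fun Q => rfl
        right_inv := fun P => Sylow.ext rfl }
  rw [htop] at hmt
  have hp2 := (Fact.out : p.Prime).two_le
  have h' : (((2 * p - 1) * Nat.card (Sylow p ↥H) : ℕ) : ℤ) ≤
      (((p - 1) * Nat.card (Sylow p G) : ℕ) : ℤ) := by
    push_cast [Nat.cast_sub (show 1 ≤ p by omega), Nat.cast_sub (show 1 ≤ 2 * p by omega)]
    exact hmt
  exact_mod_cast h'

end CfsgLib.SylRatio
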