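import Cfsg.Agent.Lib.SylowRatio.Small

/-!
The non-clique case.
-/

set_option autoImplicit false

namespace CfsgLib.SylRatio

open Subgroup

variable {G : Type*} [Group G] [Finite G] {p : ℕ} [Fact p.Prime] {L M : Subgroup G}

theorem Ext.full_L {x D : Subgroup G} (hD : Ext p x D) (hx : Full p x L) : Full p D L :=
  hD.full.trans Fact.out hx

theorem eq_of_le_conjs {D D' : Subgroup G} (hn : Nat.card D = Nat.card D') (h : D ≤ D') :
    D = D' :=
  Subgroup.eq_of_le_of_card_ge h hn.ge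

theorem Ctx.nc_data (C : Ctx p L M) {f : ℕ} {a b : Subgroup G} (S : Small p L M f a b)
    (hf2 : 2 ≤ f) {D' c : Subgroup G} (hD' : D' ∈ conjs a (R p (a ⊓ b)))
    (hne : D' ≠ R p (a ⊓ b)) (hc : c ∈ fib p (conjs L M) a D')
    (hnc : R p (b ⊓ c) ∉ conjs b (R p (a ⊓ b))) :
    b ≠ c ∧ Full p (R p (b ⊓ c)) L ∧
    (∀ y ∈ conjs b (R p (a ⊓ b)), ∀ y' ∈ conjs b (R p (a ⊓ b)),
      ∃ e ∈ R p (b ⊓ c), cj e y = y') ∧
    R p (R p (b ⊓ c) ⊓ R p (a ⊓ b)) = R p (R p (a ⊓ b) ⊓ D') ∧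
    Ext p (R p (b ⊓ c)) (R p (R p (a ⊓ b) ⊓ D')) ∧
    vv (R p (b ⊓ c)) (R p (R p (a ⊓ b) ⊓ D')) = f + p ∧
    tt p (R p (b ⊓ c)) (R p (R p (a ⊓ b) ⊓ D')) = f ∧
    (∀ z ∈ conjs b (R p (a ⊓ b)), R p (R p (a ⊓ b) ⊓ D') ≤ z → z = R p (a ⊓ b)) ∧
    Ext p (R p (a ⊓ b)) (R p (R p (a ⊓ b) ⊓ D')) ∧
    Atom p (R p (a ⊓ b)) (R p (R p (a ⊓ b) ⊓ D')) ∧
    (nS p (R p (R p (a ⊓ b) ⊓ D')) : ℤ) * ((f : ℤ) - 1 + p) =
      ((f : ℤ) - 1) * nS p (R p (a ⊓ b)) := by
  obtain ⟨hDa, -, -, hf1, hfp, -⟩ := S.ext_D C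
  have hDb : Small p L M f b a := (C.small_line S S.mem_line.2 S.mem_line.1 (Ne.symm S.hne)).2
  obtain ⟨hDb', -, -, -, -, -⟩ := hDb.ext_D C
  have hba : R p (b ⊓ a) = R p (a ⊓ b) := by rw [inf_comm]
  have hbv := hDb.hv
  have hbt := hDb.ht
  rw [hba] at hDb' hbv hbt
  obtain ⟨Sc, hRc, -, -⟩ := C.other_class S hD' hc
  have hbc : b ≠ c := by rintro rfl; exact hne hRc.symm
  set D := R p (a ⊓ b) with hD
  set T := R p (D ⊓ D') with hT
  obtain ⟨Q, hQ⟩ := syl_nonempty p D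
  obtain ⟨hExtT, hvT, htT, -⟩ := (C.D_orbit S hQ).2.2 hf2 D' ⟨hD', hne⟩
  rw [← hD, ← hT] at hExtT hvT htT
  have hTb : T ≤ b := ((R_le p _).trans inf_le_left).trans ((R_le p _).trans inf_le_right)
  have hTc : T ≤ c := ((R_le p _).trans inf_le_right).trans (hRc ▸ (R_le p _).trans inf_le_right)
  set E := R p (b ⊓ c) with hE
  have hTE : T ≤ E := le_R_of_gen p (R_R p _) (le_inf hTb hTc)
  have hbL := (C.ext.mem S.hb).1.full
  have hTL : Full p T L := hExtT.full_L S.cov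
  have hEcov : Full p E L :=
    hTL.right hTE (((R_le p _).trans inf_le_left).trans hbL.1)
  obtain ⟨hEb, -, -, hatE⟩ := C.pair S.hb hc.1 hbc hEcov
  -- `E` lies in no member of the class
  have hnot : ∀ y ∈ conjs b D, ¬ E ≤ y := by
    intro y hy hle
    rcases hatE y (hDb'.mem hy).1.genM hle (hDb'.mem hy).1.full.1 with h | h
    · rw [h] at hy; exact hnc hy
    · exact (hDb'.mem hy).1.ne h
  -- `T` is maximal in `D`
  have hmT : mm p D T = (p : ℤ) - f := by
    obtain ⟨h1, -⟩ := hExtT.vv_eq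
    rw [hvT, htT] at h1
    have hp := (Fact.out : p.Prime).pos
    have hi : ii p D T = 1 := by
      have : p * ii p D T = p * 1 := by omega
      exact Nat.eq_of_mul_eq_mul_left hp this
    unfold mm
    rw [hi, htT, Nat.cast_sub hf1]
    push_cast
    ring
  have hatT : Atom p D T := atom_below C.good
    (hDa.card_lt.trans (C.ext.card_conj_lt S.ha)) hExtT (by rw [hmT]; have := C.hp3; linarith)
  have hED : R p (E ⊓ D) = T := by
    rcases hatT (R p (E ⊓ D)) (R_R p _)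
      (le_R_of_gen p (R_R p _) (le_inf hTE ((R_le p _).trans inf_le_left)))
      ((R_le p _).trans inf_le_right) with h | h
    · exact h
    · exfalso
      have hle : D ≤ E := h ▸ (R_le p _).trans inf_le_left
      rcases (C.pair S.hb S.ha (Ne.symm S.hne) (hba.symm ▸ S.cov)).2.2.2 E (R_R p _)
        (hba.symm ▸ hle) ((R_le p _).trans inf_le_left) with h' | h'
      · exact hnc (h'.trans hba ▸ self_mem_conjs b D)
      · exact hEb.ne h'
  obtain ⟨Q', hQ'⟩ := syl_nonempty p E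
  have hQ'b := mem_syl_of_full p hEb.full hQ'
  have horb := orbit_lemma p (L := L) hEcov (R_R p _) (Y := conjs b D)
    (fun y hy => (hDb'.mem hy).1.full_L hbL)
    (fun e he y hy => cj_mem_conjs (hEb.full.1 he) hy) hnot hQ'
    (by rw [hDb'.fix_eq hQ'b]; exact hbt) hbv
  obtain ⟨hExtE, hvE, htE, hinj⟩ := horb.2 hf1 D (self_mem_conjs b D)
  rw [hED] at hExtE hvE htE hinj
  refine ⟨hbc, hEcov, horb.1, hED, hExtE, hvE, htE, hinj, hExtT, hatT, ?_⟩
  have := hExtT.mul_eq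
  rw [hvT, htT] at this
  have h' : (((f - 1) * nS p D : ℕ) : ℤ) = (((f - 1 + p) * nS p T : ℕ) : ℤ) := by rw [this]
  rw [Nat.cast_mul, Nat.cast_mul, Nat.cast_add, Nat.cast_sub hf1, Nat.cast_one] at h'
  linarith

theorem Ctx.all_nc (C : Ctx p L M) {f : ℕ} {a b : Subgroup G} (S : Small p L M f a b)
    (hf2 : 2 ≤ f) {D' c : Subgroup G} (hD' : D' ∈ conjs a (R p (a ⊓ b)))
    (hne : D' ≠ R p (a ⊓ b)) (hc : c ∈ fib p (conjs L M) a D') :
    R p (b ⊓ c) ∉ conjs b (R p (a ⊓ b)) := by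
  intro hcl
  obtain ⟨hDa, -, -, -, -, -⟩ := S.ext_D C
  obtain ⟨Sc, hRc, -, -⟩ := C.other_class S hD' hc
  set D := R p (a ⊓ b) with hD
  have hsame : ∀ c' ∈ fib p (conjs L M) a D', R p (b ⊓ c') ∈ conjs b D := by
    intro c' hc'
    by_contra hnc
    obtain ⟨-, -, -, -, -, -, -, hinj, -⟩ := C.nc_data S hf2 hD' hne hc' hnc
    have hTE : R p (D ⊓ D') ≤ R p (b ⊓ c) := le_R_of_gen p (R_R p _) (le_inf
      (((R_le p _).trans inf_le_left).trans ((R_le p _).trans inf_le_right))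
      (((R_le p _).trans inf_le_right).trans (hRc ▸ (R_le p _).trans inf_le_right)))
    have h1 := hinj _ hcl hTE
    have h2 : D ≤ c := le_of_eq_of_le h1.symm ((R_le p _).trans inf_le_right)
    exact hne (hRc ▸ C.max_pair S.ha S.hb S.hne S.cov hc.1 hc.2.1 h2)
  refine C.clique_false S fun D'' hD'' hne'' c'' hc'' => ?_
  obtain ⟨Q, hQ⟩ := syl_nonempty p D
  obtain ⟨d, hd, hdD⟩ := (C.D_orbit S hQ).2.1 D' ⟨hD', hne⟩ D'' ⟨hD'', hne''⟩
  have hda : d ∈ a := hDa.full.1 hd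
  rw [← hdD, C.ext.fib_cj S.ha hda] at hc''
  obtain ⟨c0, hc0, rfl⟩ := hc''
  have hdb : d ∈ b := ((R_le p _).trans inf_le_right : R p (a ⊓ b) ≤ b) hd
  conv in R p (b ⊓ cj d c0) => rw [← cj_mem_of_mem hdb]
  rw [R_cj_inf]
  exact cj_mem_conjs hdb (hsame c0 hc0)

theorem conjs_card {x D y : Subgroup G} (hy : y ∈ conjs x D) : Nat.card y = Nat.card D := by
  obtain ⟨g, -, rfl⟩ := hy; exact card_cj g D

theorem Ctx.ge_two_false (C : Ctx p L M) : ∀ f : ℕ, ∀ a b : Subgroup G,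
    Small p L M f a b → 2 ≤ f → False := by
  intro f
  induction f using Nat.strong_induction_on with
  | _ f IH =>
  intro a b S hf2
  obtain ⟨hDa, -, hma, hf1, hfp, hratio⟩ := S.ext_D C
  have hp := C.hp3
  have hDb : Small p L M f b a := (C.small_line S S.mem_line.2 S.mem_line.1 (Ne.symm S.hne)).2
  obtain ⟨hDb', -, hmb, -, -, -⟩ := hDb.ext_D C
  have hba : R p (b ⊓ a) = R p (a ⊓ b) := by rw [inf_comm]
  have hbv := hDb.hv
  rw [hba] at hDb' hbv hmb
  set D := R p (a ⊓ b) with hD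
  set w := ww L M a b p with hw
  obtain ⟨Q, hQ⟩ := syl_nonempty p D
  obtain ⟨D', hD'K, hD'ne⟩ : (conjs a D \ {D}).Nonempty := by
    refine (Set.ncard_pos (Set.toFinite _)).1 ?_
    have := Set.ncard_sdiff_singleton_add_one (self_mem_conjs a D) (Set.toFinite _)
    have hv : (conjs a D).ncard = f + p := S.hv
    omega
  rw [Set.mem_singleton_iff] at hD'ne
  obtain ⟨g, hg, hgD⟩ := hD'K
  have hD'K : D' ∈ conjs a D := ⟨g, hg, hgD⟩
  obtain ⟨c, hc⟩ : (fib p (conjs L M) a D').Nonempty := by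
    rw [← hgD, C.ext.fib_cj S.ha hg]
    exact ⟨cj g b, b, ⟨S.hb, Ne.symm S.hne, rfl⟩, rfl⟩
  have hnc := C.all_nc S hf2 hD'K hD'ne hc
  obtain ⟨Sc, hRc, hwD', hlD'⟩ := C.other_class S hD'K hc
  have hDK' : D ∈ conjs a (R p (a ⊓ c)) := by
    rw [hRc, conjs_eq_of_mem hD'K]; exact self_mem_conjs a D
  have hbfib : b ∈ fib p (conjs L M) a D := ⟨S.hb, Ne.symm S.hne, rfl⟩
  have hne' : D ≠ R p (a ⊓ c) := by rw [hRc]; exact Ne.symm hD'ne
  have hnc' := C.all_nc Sc hf2 hDK' hne' hbfib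
  obtain ⟨hbc, hEcov, htrans, hED, hExtE, hvE, htE, hinjb, hExtT, hatT, hnT⟩ :=
    C.nc_data S hf2 hD'K hD'ne hc hnc
  obtain ⟨-, -, -, -, -, -, -, hinjc, -⟩ := C.nc_data Sc hf2 hDK' hne' hbfib hnc'
  rw [hRc] at hinjc
  set T := R p (D ⊓ D') with hT
  have hT' : R p (D' ⊓ D) = T := by rw [inf_comm]
  rw [hT'] at hinjc
  set E := R p (b ⊓ c) with hE
  have hEb : E ≤ b := (R_le p _).trans inf_le_left
  have hEc : E ≤ c := (R_le p _).trans inf_le_right
  have hTc : T ≤ c := ((R_le p _).trans inf_le_right).trans (hRc ▸ (R_le p _).trans inf_le_right)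
  -- common neighbours
  set U := cls p (conjs L M) b D ∩ cls p (conjs L M) c D' with hU
  have haU : a ∈ U := by
    refine ⟨⟨S.ha, S.hne, ?_⟩, S.ha, Ne.symm hc.2.1, ?_⟩
    · rw [hba]; exact self_mem_conjs b D
    · rw [inf_comm, hRc]; exact self_mem_conjs c D'
  have huniq : ∀ x ∈ U, R p (b ⊓ x) = D → x = a := by
    rintro x ⟨⟨hxX, hxb, -⟩, -, hxc, hxD'⟩ hx
    by_contra hxa
    have hDx : D ≤ x := hx ▸ (R_le p _).trans inf_le_right
    have h1 : T ≤ R p (c ⊓ x) := le_R_of_gen p (R_R p _)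
      (le_inf hTc (((R_le p _).trans inf_le_left).trans hDx))
    have h2 := hinjc _ hxD' h1
    have h3 : D' ≤ x := h2 ▸ (R_le p _).trans inf_le_right
    have h4 := C.max_pair S.ha S.hb S.hne S.cov hxX hxa hDx
    have h5 := C.max_pair S.ha hc.1 (Ne.symm hc.2.1) Sc.cov hxX hxa (by rw [hRc]; exact h3)
    exact hne' (h4.symm.trans h5)
  have hbX := S.hb
  have hUinv : ∀ e ∈ E, ∀ x ∈ U, cj e x ∈ U := by
    intro e he x hx
    have h1 := (C.cls_stab (D := D) S.hb).1 (hEb he)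
    have h2 := (C.cls_stab (D := D') hc.1).1 (hEc he)
    refine ⟨?_, ?_⟩
    · rw [← (show cj e '' cls p (conjs L M) b D = _ from h1)]; exact ⟨x, hx.1, rfl⟩
    · rw [← (show cj e '' cls p (conjs L M) c D' = _ from h2)]; exact ⟨x, hx.2, rfl⟩
  have hUcard : U.ncard = f + p := by
    have hφ : Set.InjOn (fun x => R p (b ⊓ x)) U := by
      intro x hx x' hx' he
      simp only at he
      obtain ⟨e, he', hee⟩ := htrans _ hx.1.2.2 D (self_mem_conjs b D)
      have h1 : ∀ z ∈ U, R p (b ⊓ z) = R p (b ⊓ x) → cj e z = a := by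
        intro z hz hzx
        refine huniq _ (hUinv e he' z hz) ?_
        conv in R p (b ⊓ cj e z) => rw [← cj_mem_of_mem (hEb he')]
        rw [R_cj_inf, hzx, hee]
      exact cj_injective e ((h1 x hx rfl).trans (h1 x' hx' he.symm).symm)
    rw [← Set.InjOn.ncard_image hφ, ← hbv]
    unfold vv
    congr 1
    ext y
    constructor
    · rintro ⟨x, hx, rfl⟩; exact hx.1.2.2
    · intro hy
      obtain ⟨e, he, rfl⟩ := htrans D (self_mem_conjs b D) y hy
      refine ⟨cj e a, hUinv e he a haU, ?_⟩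
      simp only
      conv in R p (b ⊓ cj e a) => rw [← cj_mem_of_mem (hEb he)]
      rw [R_cj_inf, hba]
  have hSb : (cls p (conjs L M) b D).ncard = (f + p) * w := by
    rw [C.ext.cls_card S.hb, C.fib_card_line S S.mem_line.2, hbv]
  have hw1 : 1 ≤ w := S.ww_pos
  by_cases hw2 : w = 1
  · -- one point on each line
    have hcl : c ∈ line (conjs L M) (R p (a ⊓ c)) := Sc.mem_line.2
    have hwc : (fib p (conjs L M) c D').ncard = w := by
      have h1 : ww L M a c p = w := by unfold ww; rw [hRc]; exact hwD'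
      rw [← hRc, C.fib_card_line Sc hcl, h1]
    have hvc : vv c D' = f + p := by
      have := (C.small_line Sc hcl Sc.mem_line.1 hc.2.1).2.hv
      rwa [inf_comm, hRc] at this
    have hSc : (cls p (conjs L M) c D').ncard = (f + p) * w := by
      rw [C.ext.cls_card hc.1, hwc, hvc]
    have h1 : U = cls p (conjs L M) b D := Set.eq_of_subset_of_ncard_le Set.inter_subset_left
      (by rw [hSb, hUcard, hw2, mul_one]) (Set.toFinite _)
    have h2 : U = cls p (conjs L M) c D' := Set.eq_of_subset_of_ncard_le Set.inter_subset_right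
      (by rw [hSc, hUcard, hw2, mul_one]) (Set.toFinite _)
    have hbU : b ≤ setStab U := by rw [h1]; exact (C.cls_stab S.hb).1
    have hcU : c ≤ setStab U := by rw [h2]; exact (C.cls_stab hc.1).1
    exact (C.eq_all S.hb hc.1 hbc haU S.ha hbU hcU S.hb).1.2.1 rfl
  have hw2' : 2 ≤ w := by omega
  -- the second neighbourhood
  let Zx : Subgroup G → Set (Subgroup G) := fun x =>
    {z ∈ conjs L M | z ≠ x ∧ R p (x ⊓ z) ∈ conjs x D \ {D}}
  have hline : ∀ x ∈ line (conjs L M) D, x ≠ b → Small p L M f x b ∧ R p (x ⊓ b) = D :=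
    fun x hx hxb => ⟨(C.small_line S hx S.mem_line.2 hxb).2, (C.small_line S hx S.mem_line.2 hxb).1⟩
  have hZdata : ∀ x ∈ line (conjs L M) D, x ≠ b → ∀ z ∈ Zx x,
      ∃ h : R p (b ⊓ z) ∉ conjs b D, z ≠ b ∧ Full p (R p (b ⊓ z)) L ∧
        (nS p (R p (b ⊓ z)) : ℤ) * ((f : ℤ) - 1 + p) = ((f : ℤ) - 1) * nS p b ∧
        R p (R p (b ⊓ z) ⊓ D) = R p (D ⊓ R p (x ⊓ z)) := by
    intro x hx hxb z hz
    obtain ⟨Sx, hRx⟩ := hline x hx hxb
    obtain ⟨hzX, hzx, hzD, hzne⟩ := hz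
    rw [Set.mem_singleton_iff] at hzne
    have hzfib : z ∈ fib p (conjs L M) x (R p (x ⊓ z)) := ⟨hzX, hzx, rfl⟩
    have h1 := C.all_nc Sx hf2 (by rw [hRx]; exact hzD) (by rw [hRx]; exact hzne) hzfib
    obtain ⟨h2, h3, -, h4, h5, h6, h7, -, -, -, h8⟩ :=
      C.nc_data Sx hf2 (by rw [hRx]; exact hzD) (by rw [hRx]; exact hzne) hzfib h1
    rw [hRx] at h1 h4 h5 h6 h7 h8
    refine ⟨h1, Ne.symm h2, h3, ?_, h4⟩
    have h9 := h5.mul_eq
    rw [h6, h7] at h9
    have h9' : ((f * nS p (R p (b ⊓ z)) : ℕ) : ℤ) =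
        (((f + p) * nS p (R p (D ⊓ R p (x ⊓ z))) : ℕ) : ℤ) := by rw [h9]
    push_cast at h9'
    have hrb : (nS p D : ℤ) * (f + p) = f * nS p b := by
      rw [hratio, (C.ext.mem S.hb).2.1, (C.ext.mem S.ha).2.1]
    have hf0 : (f : ℤ) ≠ 0 := by positivity
    apply mul_left_cancel₀ hf0
    calc (f : ℤ) * ((nS p (R p (b ⊓ z)) : ℤ) * ((f : ℤ) - 1 + p))
        = ((f : ℤ) + p) * (nS p (R p (D ⊓ R p (x ⊓ z))) * ((f : ℤ) - 1 + p)) := by
          rw [← mul_assoc, h9']; ring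
      _ = ((f : ℤ) - 1) * (nS p D * (f + p)) := by rw [h8]; ring
      _ = (f : ℤ) * (((f : ℤ) - 1) * nS p b) := by rw [hrb]; ring
  have hZcard : ∀ x ∈ line (conjs L M) D, x ≠ b → (Zx x).ncard = (f - 1 + p) * w := by
    intro x hx hxb
    obtain ⟨Sx, hRx⟩ := hline x hx hxb
    show {z ∈ conjs L M | z ≠ x ∧ R p (x ⊓ z) ∈ conjs x D \ {D}}.ncard = _
    rw [C.ext.cls_sub hx.1 (S := conjs x D \ {D}) Set.sdiff_subset, C.fib_card_line S hx]
    congr 1
    have := Set.ncard_sdiff_singleton_add_one (self_mem_conjs x D) (Set.toFinite _)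
    have hv : (conjs x D).ncard = f + p := by rw [← hRx]; exact Sx.hv
    omega
  have hZdisj : ∀ x ∈ line (conjs L M) D, x ≠ b → ∀ x' ∈ line (conjs L M) D, x' ≠ b →
      ∀ z ∈ Zx x, z ∈ Zx x' → x = x' := by
    intro x hx hxb x' hx' hx'b z hz hz'
    by_contra hxx
    obtain ⟨-, hzb, -, -, hT1⟩ := hZdata x hx hxb z hz
    obtain ⟨-, -, -, -, hT2⟩ := hZdata x' hx' hx'b z hz'
    obtain ⟨Sx, hRx⟩ := hline x hx hxb
    obtain ⟨hzX, hzx, hzD, hzne⟩ := hz
    obtain ⟨-, hzx', hzD', hzne'⟩ := hz'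
    rw [Set.mem_singleton_iff] at hzne hzne'
    set Dx := R p (x ⊓ z) with hDx
    set Dx' := R p (x' ⊓ z) with hDx'
    have hTT : R p (D ⊓ Dx) = R p (D ⊓ Dx') := hT1.symm.trans hT2
    set T₁ := R p (D ⊓ Dx)
    -- the lines through `x`
    obtain ⟨Sxz, hRxz, -, -⟩ := C.other_class Sx (D' := Dx) (c := z) (by rw [hRx]; exact hzD)
      ⟨hzX, hzx, rfl⟩
    have hDinx : D ∈ conjs x (R p (x ⊓ z)) := by
      rw [conjs_eq_of_mem hzD]; exact self_mem_conjs x D
    have hncx := C.all_nc Sxz hf2 hDinx (Ne.symm hzne)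
      (show b ∈ fib p (conjs L M) x D from ⟨S.hb, Ne.symm hxb, hRx⟩)
    obtain ⟨-, -, -, -, -, -, -, hinjz, hExtT1, hatT1, hnT1⟩ := C.nc_data Sxz hf2 hDinx
      (Ne.symm hzne) (show b ∈ fib p (conjs L M) x D from ⟨S.hb, Ne.symm hxb, hRx⟩) hncx
    have hTsym : R p (Dx ⊓ D) = T₁ := by rw [inf_comm]
    rw [hTsym] at hinjz hExtT1 hatT1 hnT1
    have hTDx : T₁ ≤ Dx := (R_le p _).trans inf_le_right
    have hTDx' : T₁ ≤ Dx' := hTT ▸ (R_le p _).trans inf_le_right
    have hSzx := C.small_line Sxz Sxz.mem_line.2 Sxz.mem_line.1 hzx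
    rw [inf_comm] at hSzx
    obtain ⟨hDzx, -, -, -, -, -⟩ := hSzx.2.ext_D C
    have hRzx : R p (z ⊓ x) = Dx := by rw [inf_comm]
    rw [hRzx] at hDzx
    have hcovx' : Full p Dx' L := by
      obtain ⟨Sx', hRx'⟩ := hline x' hx' hx'b
      exact (C.other_class Sx' (D' := Dx') (c := z) (by rw [hRx']; exact hzD')
        ⟨hzX, hzx', rfl⟩).1.cov
    by_cases hin : Dx' ∈ conjs z Dx
    · have h := hinjz Dx' hin hTDx'
      have hxl : x' ∈ line (conjs L M) (R p (x ⊓ z)) :=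
        ⟨hx'.1, le_of_eq_of_le h.symm ((R_le p _).trans inf_le_left)⟩
      have h1 := C.line_pair Sxz.ha Sxz.hb Sxz.hne Sxz.cov Sxz.mem_line.1 hxl hxx
      have h2 := (C.small_line S hx hx' hxx).1
      exact hzne (h1.symm.trans h2)
    · -- then `Dx'` is transitive on the class
      have hzx'' : R p (z ⊓ x') = Dx' := by rw [inf_comm]
      obtain ⟨-, -, -, hatz⟩ := C.pair hzX hx'.1 hzx' (hzx''.symm ▸ hcovx')
      rw [hzx''] at hatz
      have hzL := (C.ext.mem hzX).1.full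
      have hcard : (nS p Dx' : ℤ) = nS p Dx := by
        obtain ⟨g1, -, hg1⟩ := hzD
        obtain ⟨g2, -, hg2⟩ := hzD'
        rw [← hg1, ← hg2, nS_cj, nS_cj]
      obtain ⟨Q', hQ'⟩ := syl_nonempty p Dx'
      have hDx'z : Full p Dx' z := hcovx'.left ((R_le p _).trans inf_le_right) hzL.1
      have htz : tt p z Dx = f := by have := hSzx.2.ht; rwa [hRzx] at this
      have hvz : vv z Dx = f + p := by have := hSzx.2.hv; rwa [hRzx] at this
      obtain ⟨hE1, hv1, ht1, -⟩ := (orbit_lemma p (L := L) hcovx' (R_R p _) (Y := conjs z Dx)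
        (fun y hy => (hDzx.mem hy).1.full_L hzL)
        (fun e he y hy => cj_mem_conjs (hDx'z.1 he) hy)
        (fun y hy hle => by
          rcases hatz y (hDzx.mem hy).1.genM hle (hDzx.mem hy).1.full.1 with h | h
          · exact hin (h ▸ hy)
          · exact (hDzx.mem hy).1.ne h)
        hQ' (by rw [hDzx.fix_eq (mem_syl_of_full p hDx'z hQ')]; exact htz) hvz).2 hf1 Dx
        (self_mem_conjs z Dx)
      have hR1 : R p (Dx' ⊓ Dx) = T₁ := by
        rcases hatT1 (R p (Dx' ⊓ Dx)) (R_R p _)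
          (le_R_of_gen p (R_R p _) (le_inf hTDx' hTDx)) ((R_le p _).trans inf_le_right) with h | h
        · exact h
        · exfalso
          have hle : Dx ≤ Dx' := le_of_eq_of_le h.symm ((R_le p _).trans inf_le_left)
          have := eq_of_le_conjs ((conjs_card hzD).trans (conjs_card hzD').symm) hle
          exact hin (this ▸ self_mem_conjs z Dx)
      rw [hR1] at hE1 hv1 ht1
      have h9 := hE1.mul_eq
      rw [hv1, ht1] at h9
      have h9' : ((f * nS p Dx' : ℕ) : ℤ) = (((f + p) * nS p T₁ : ℕ) : ℤ) := by rw [h9]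
      push_cast at h9'
      rw [hcard] at h9'
      have hn0 : (0 : ℤ) < nS p T₁ := by exact_mod_cast nS_pos p T₁
      have hk : ((f : ℤ) * ((f : ℤ) - 1 + p) - ((f : ℤ) - 1) * (f + p)) * nS p T₁ = 0 := by
        calc ((f : ℤ) * ((f : ℤ) - 1 + p) - ((f : ℤ) - 1) * (f + p)) * nS p T₁
            = (f : ℤ) * (nS p T₁ * ((f : ℤ) - 1 + p)) -
                ((f : ℤ) - 1) * (((f : ℤ) + p) * nS p T₁) := by ring
          _ = 0 := by rw [hnT1, ← h9']; ring
      rcases mul_eq_zero.1 hk with h | h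
      · have : (p : ℤ) = 0 := by linarith [h, show (f : ℤ) * ((f : ℤ) - 1 + p) -
          ((f : ℤ) - 1) * (f + p) = p by ring]
        linarith
      · linarith
  -- the union
  classical
  set I := (Set.toFinite (line (conjs L M) D \ {b})).toFinset with hI
  set Z := I.biUnion fun x => (Set.toFinite (Zx x)).toFinset with hZ
  have hImem : ∀ x, x ∈ I ↔ x ∈ line (conjs L M) D ∧ x ≠ b := by
    intro x; simp [hI]
  have hIcard : I.card = w := by
    rw [hI, ← Set.ncard_eq_toFinset_card]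
    have h1 : (line (conjs L M) D \ {b}).ncard + 1 = (line (conjs L M) D).ncard :=
      Set.ncard_sdiff_singleton_add_one S.mem_line.2 (Set.toFinite _)
    have h2 : (line (conjs L M) D).ncard = w + 1 := C.line_card S
    omega
  have hZcard' : Z.card = w * ((f - 1 + p) * w) := by
    rw [hZ, Finset.card_biUnion]
    · rw [Finset.sum_congr rfl (g := fun _ => (f - 1 + p) * w), Finset.sum_const, hIcard,
        smul_eq_mul]
      intro x hx
      rw [← Set.ncard_eq_toFinset_card]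
      exact hZcard x ((hImem x).1 hx).1 ((hImem x).1 hx).2
    · intro x hx x' hx' hxx
      rw [Function.onFun, Finset.disjoint_left]
      intro z hz hz'
      rw [Set.Finite.mem_toFinset] at hz hz'
      exact hxx (hZdisj x ((hImem x).1 hx).1 ((hImem x).1 hx).2 x' ((hImem x').1 hx').1
        ((hImem x').1 hx').2 z hz hz')
  have hZmem : ∀ z, z ∈ (Z : Set (Subgroup G)) ↔
      ∃ x, (x ∈ line (conjs L M) D ∧ x ≠ b) ∧ z ∈ Zx x := by
    intro z
    simp only [hZ, Finset.coe_biUnion, Set.mem_iUnion, Finset.mem_coe, hImem,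
      Set.Finite.coe_toFinset, exists_prop]
  have hZncard : (Z : Set (Subgroup G)).ncard = w * ((f - 1 + p) * w) := by
    rw [Set.ncard_coe_finset, hZcard']
  set k : ℤ := (f : ℤ) - 1 + p with hk
  have hk0 : (0 : ℤ) < k := by
    rw [hk]; have : (2 : ℤ) ≤ f := by exact_mod_cast hf2
    linarith
  have hcast : ((w * ((f - 1 + p) * w) : ℕ) : ℤ) = (w : ℤ) * w * k := by
    rw [hk, Nat.cast_mul, Nat.cast_mul, Nat.cast_add, Nat.cast_sub hf1, Nat.cast_one]; ring
  have hcz : ∀ z ∈ (Z : Set (Subgroup G)), z ∈ conjs L M ∧ z ≠ b ∧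
      k * cst p b z = p * ((p : ℤ) - f) * nS p b := by
    intro z hz
    obtain ⟨x, ⟨hx, hxb⟩, hzx⟩ := (hZmem z).1 hz
    obtain ⟨-, hzb, hcov, hn, -⟩ := hZdata x hx hxb z hzx
    refine ⟨hzx.1, hzb, ?_⟩
    rw [C.ext.cst_cov S.hb hzx.1 (Ne.symm hzb) hcov]
    have : k * ((2 * (p : ℤ) - 1) * nS p (R p (b ⊓ z))) =
        (2 * p - 1) * (((f : ℤ) - 1) * nS p b) := by rw [← hn]; ring
    rw [mul_sub, this, hk]; ring
  obtain ⟨cz, hcz'⟩ : ∃ cz : ℤ, ∀ z ∈ (Z : Set (Subgroup G)), cst p b z = cz ∧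
      k * cz = p * ((p : ℤ) - f) * nS p b := by
    rcases Set.eq_empty_or_nonempty (Z : Set (Subgroup G)) with h | ⟨z0, hz0⟩
    · exact ⟨0, fun z hz => by rw [h] at hz; exact absurd hz (Set.notMem_empty z)⟩
    · refine ⟨cst p b z0, fun z hz => ⟨?_, (hcz z0 hz0).2.2⟩⟩
      exact mul_left_cancel₀ hk0.ne' ((hcz z hz).2.2.trans (hcz z0 hz0).2.2.symm)
  have htwo := C.ext.cost_two C.good S.hb (S1 := (Z : Set (Subgroup G)))
    (S2 := cls p (conjs L M) b D) (c1 := cz)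
    (fun z hz => ⟨(hcz z hz).1, (hcz z hz).2.1, (hcz' z hz).1⟩)
    (fun y hy => ⟨hy.1, hy.2.1, (C.ext.mem_cls S.hb hDb' hy).2⟩)
    (fun z hz hzc => by
      obtain ⟨x, ⟨hx, hxb⟩, hzx⟩ := (hZmem z).1 hz
      exact (hZdata x hx hxb z hzx).1 hzc.2.2)
  rw [C.ext.cls_cost S.hb hDb', hZncard, hcast, C.fib_card_line S S.mem_line.2, hmb] at htwo
  have hkc : k * cz = p * ((p : ℤ) - f) * nS p b := by
    have hne : (Z : Set (Subgroup G)).Nonempty := by
      refine (Set.ncard_pos (Set.toFinite _)).1 ?_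
      rw [hZncard]
      exact Nat.mul_pos (by omega) (Nat.mul_pos (by omega) (by omega))
    obtain ⟨z0, hz0⟩ := hne
    exact (hcz' z0 hz0).2
  have hpn : (0 : ℤ) < p * nS p b := mul_pos (by linarith) hDb'.nS_pos_int.2
  have hineq : (w : ℤ) * w * ((p : ℤ) - f) + w * ((p : ℤ) - 1 - f) ≤ mm p L M + 1 := by
    refine le_of_mul_le_mul_left ?_ hpn
    calc (p : ℤ) * nS p b * ((w : ℤ) * w * ((p : ℤ) - f) + w * ((p : ℤ) - 1 - f))
        = (w : ℤ) * w * (k * cz) + p * nS p b * (w * ((p : ℤ) - 1 - f)) := by rw [hkc]; ring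
      _ ≤ _ := by rw [hw] at htwo ⊢; linarith
  have hm := C.hm
  have hw2z : (2 : ℤ) ≤ w := by exact_mod_cast hw2'
  have hfpz : (f : ℤ) + 1 ≤ p := by exact_mod_cast hfp
  have hww : (4 : ℤ) ≤ (w : ℤ) * w := by nlinarith
  have hm1 : (0 : ℤ) ≤ w * ((p : ℤ) - 1 - f) := mul_nonneg (by linarith) (by linarith)
  have hpf : 4 * ((p : ℤ) - f) ≤ (w : ℤ) * w * ((p : ℤ) - f) :=
    mul_le_mul_of_nonneg_right hww (by linarith)
  by_cases hf3 : f = 2
  · subst hf3; push_cast at hpf hm1 hineq; linarith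
  have hf3' : 3 ≤ f := by omega
  -- the class of `E`
  have hbig : ∀ z ∈ conjs L M, z ≠ b → Full p (R p (b ⊓ z)) L →
      (nS p (R p (b ⊓ z)) : ℤ) * k = ((f : ℤ) - 1) * nS p b →
      Ext p b (R p (b ⊓ z)) ∧ (p : ℤ) - 1 ≤ mm p b (R p (b ⊓ z)) ∧
      (tt p b (R p (b ⊓ z)) : ℤ) = ((f : ℤ) - 1) * ii p b (R p (b ⊓ z)) := by
    intro z hz hzb hcov hn
    obtain ⟨hEx, -, -, -⟩ := C.pair S.hb hz (Ne.symm hzb) hcov
    obtain ⟨e1, -, g1, -⟩ := hEx.cast
    have ht : (tt p b (R p (b ⊓ z)) : ℤ) = ((f : ℤ) - 1) * ii p b (R p (b ⊓ z)) := by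
      have h1 : ((tt p b (R p (b ⊓ z)) : ℤ) * k) * nS p (R p (b ⊓ z)) =
          (((f : ℤ) - 1) * vv b (R p (b ⊓ z))) * nS p (R p (b ⊓ z)) := by
        calc ((tt p b (R p (b ⊓ z)) : ℤ) * k) * nS p (R p (b ⊓ z))
            = tt p b (R p (b ⊓ z)) * (nS p (R p (b ⊓ z)) * k) := by ring
          _ = ((f : ℤ) - 1) * (tt p b (R p (b ⊓ z)) * nS p b) := by rw [hn]; ring
          _ = _ := by rw [g1]; ring
      have h2 := mul_right_cancel₀ hEx.nS_pos_int.1.ne' h1
      rw [e1, hk] at h2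
      have h3 : (p : ℤ) * tt p b (R p (b ⊓ z)) =
          p * (((f : ℤ) - 1) * ii p b (R p (b ⊓ z))) := by linarith
      exact mul_left_cancel₀ (by linarith) h3
    refine ⟨hEx, ?_, ht⟩
    by_contra hlt
    have hi := (C.good b (C.ext.card_conj_lt S.hb) _ hEx).2.1 C.odd (by linarith)
    rw [hi] at ht
    push_cast at ht
    have htn : tt p b (R p (b ⊓ z)) = f - 1 := by omega
    refine IH (f - 1) (by omega) b z ⟨S.hb, hz, Ne.symm hzb, hcov, ?_, htn⟩ (by omega)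
    rw [hEx.vv_eq.1, hi, htn, mul_one]
  obtain ⟨hnTE⟩ : Nonempty ((nS p E : ℤ) * k = ((f : ℤ) - 1) * nS p b) := by
    have hcz0 : c ∈ Zx a := ⟨hc.1, hc.2.1, by rw [hRc]; exact hD'K, by
      rw [Set.mem_singleton_iff, hRc]; exact hD'ne⟩
    exact ⟨(hZdata a S.mem_line.1 S.hne c hcz0).2.2.2.1⟩
  obtain ⟨hExb, hbigE, htEb⟩ := hbig c hc.1 (Ne.symm hbc) hEcov hnTE
  rw [← hE] at hExb hbigE htEb
  -- a single class of weight one
  have hfibE : fib p (conjs L M) b E = {c} := by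
    have h1 := C.ext.class_one C.good S.hb hExb
    have hcm : c ∈ fib p (conjs L M) b E := ⟨hc.1, Ne.symm hbc, rfl⟩
    by_contra hne0
    have h2 : 2 ≤ (fib p (conjs L M) b E).ncard := by
      by_contra hlt
      refine hne0 (Set.eq_of_subset_of_ncard_le (Set.singleton_subset_iff.2 hcm) ?_
        (Set.toFinite _)).symm
      rw [Set.ncard_singleton]; omega
    have h3 : (2 : ℤ) ≤ (fib p (conjs L M) b E).ncard := by exact_mod_cast h2
    have h4 := mul_le_mul h3 hbigE (by linarith) (by linarith)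
    linarith
  have hZsub : ∀ z ∈ (Z : Set (Subgroup G)), z ∈ cls p (conjs L M) b E := by
    intro z hz
    obtain ⟨x, ⟨hx, hxb⟩, hzx⟩ := (hZmem z).1 hz
    obtain ⟨-, hzb, hcov, hn, -⟩ := hZdata x hx hxb z hzx
    refine ⟨hzx.1, hzb, ?_⟩
    by_contra hnmem
    obtain ⟨hEz, hbigz, -⟩ := hbig z hzx.1 hzb hcov hn
    have h2 := C.ext.class_two C.good S.hb hExb hEz hnmem
    have h3 : (1 : ℤ) ≤ (fib p (conjs L M) b (R p (b ⊓ z))).ncard := by
      have h4 : (fib p (conjs L M) b (R p (b ⊓ z))).Nonempty := ⟨z, hzx.1, hzb, rfl⟩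
      exact_mod_cast (Set.ncard_pos (Set.toFinite _)).2 h4
    rw [hfibE, Set.ncard_singleton, Nat.cast_one, one_mul] at h2
    have h5 := mul_le_mul h3 hbigz (by linarith) (by linarith)
    linarith
  have hclsE : ∀ y ∈ cls p (conjs L M) b E, y ∈ (Z : Set (Subgroup G)) := by
    rintro y ⟨hyX, hyb, g, hg, hgy⟩
    simp only at hgy
    have hy' : y ∈ fib p (conjs L M) b (cj g E) := ⟨hyX, hyb, hgy.symm⟩
    rw [C.ext.fib_cj S.hb hg, hfibE] at hy'
    obtain ⟨c0, hc0, rfl⟩ := hy'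
    rw [Set.mem_singleton_iff] at hc0
    subst hc0
    -- move the class back to `D`
    obtain ⟨e, he, hee⟩ := htrans D (self_mem_conjs b D) (cj g⁻¹ D)
      (cj_mem_conjs (b.inv_mem hg) (self_mem_conjs b D))
    set h := g * e
    have hhb : h ∈ b := b.mul_mem hg (hEb he)
    have hhD : cj h D = D := by rw [cj_mul, hee, cj_cj_inv]
    have hhc : cj h c0 = cj g c0 := by rw [cj_mul, cj_mem_of_mem (hEc he)]
    have hhL : h ∈ L := (C.ext.mem S.hb).1.full.1 hhb
    refine (hZmem _).2 ⟨cj h a, ⟨⟨cj_mem_conjs hhL S.ha, ?_⟩, ?_⟩, ?_⟩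
    · rw [← hhD]; exact cj_mono h hDa.full.1
    · intro hcon
      exact S.hne (cj_injective h (by rw [hcon, cj_mem_of_mem hhb]))
    · rw [← hhc]
      refine ⟨cj_mem_conjs hhL hc.1, fun hcon => hc.2.1 (cj_injective h hcon), ?_⟩
      rw [R_cj_inf, hRc]
      refine ⟨?_, ?_⟩
      · obtain ⟨k', hk', hk''⟩ := hD'K
        simp only at hk''
        refine ⟨h * k' * h⁻¹, mem_cj.2 (by simpa [mul_assoc] using hk'), ?_⟩
        simp only
        conv_lhs => arg 2; rw [← hhD]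
        rw [← hk'', ← cj_mul, ← cj_mul]
        congr 1
        group
      · rw [Set.mem_singleton_iff]
        intro hcon
        rw [← hhD] at hcon
        exact hD'ne (cj_injective h hcon)
  have hvY : (vv b E : ℤ) = w * w * k := by
    have h1 : (cls p (conjs L M) b E).ncard = (Z : Set (Subgroup G)).ncard :=
      congrArg Set.ncard (Set.Subset.antisymm hclsE hZsub)
    rw [C.ext.cls_card S.hb, hfibE, Set.ncard_singleton, mul_one, hZncard] at h1
    rw [h1, hcast]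
  have hiY : (ii p b E : ℤ) = w * w := by
    obtain ⟨e1, -, -, -⟩ := hExb.cast
    rw [hvY, htEb] at e1
    have h2 : (ii p b E : ℤ) * k = (w : ℤ) * w * k := by rw [hk] at e1 ⊢; linarith
    exact mul_right_cancel₀ hk0.ne' h2
  have hmY : mm p b E = ((p : ℤ) - f) * (w * w) := by
    unfold mm; rw [htEb, hiY]; ring
  have htY : p + 1 ≤ tt p b E := by
    have : (p : ℤ) + 1 ≤ tt p b E := by
      rw [htEb, hiY]
      have h1 : 4 * ((f : ℤ) - 1) ≤ ((f : ℤ) - 1) * ((w : ℤ) * w) := by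
        have h3f : (3 : ℤ) ≤ f := by exact_mod_cast hf3'
        have := mul_le_mul_of_nonneg_left hww (show (0 : ℤ) ≤ (f : ℤ) - 1 by linarith)
        linarith
      linarith
    exact_mod_cast this
  have hmY' : mm p b E ≤ 2 * (p : ℤ) - 4 := by
    rw [hmY]
    by_cases hfe : f + 1 = p
    · have hpe : (p : ℤ) - f = 1 := by rw [← hfe]; push_cast; ring
      rw [hpe, one_mul]
      rw [hpe, mul_one] at hineq
      by_contra hgt
      have he : (w : ℤ) * w = 2 * p - 3 := by linarith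
      obtain ⟨q, hq⟩ := Nat.even_or_odd' w
      have hpodd : Odd p := (Fact.out : p.Prime).odd_of_ne_two C.odd
      obtain ⟨r, hr⟩ := hpodd
      have he' : (w * w + 3 : ℕ) = 2 * p := by exact_mod_cast (by linarith : (w : ℤ) * w + 3 = 2 * p)
      rcases hq with hq | hq <;> rw [hq] at he'
      · have : 2 * q * (2 * q) = 4 * (q * q) := by ring
        omega
      · have : (2 * q + 1) * (2 * q + 1) = 4 * (q * q + q) + 1 := by ring
        omega
    · have h1 : (f : ℤ) + 2 ≤ p := by exact_mod_cast (by omega : f + 2 ≤ p)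
      have h2 : (2 : ℤ) * 1 ≤ w * ((p : ℤ) - 1 - f) :=
        mul_le_mul hw2z (by linarith) (by norm_num) (by linarith)
      linarith
  -- the recursion
  obtain ⟨c', hc', hcc'⟩ : (fib p (conjs L M) a D' \ {c}).Nonempty := by
    refine (Set.ncard_pos (Set.toFinite _)).1 ?_
    have := Set.ncard_sdiff_singleton_add_one hc (Set.toFinite _)
    omega
  rw [Set.mem_singleton_iff] at hcc'
  have hncE := C.all_nc S hf2 hD'K hD'ne hc'
  obtain ⟨hbc', hE'cov, -, -, hExtE', -, -, -, -, -, -⟩ := C.nc_data S hf2 hD'K hD'ne hc' hncE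
  set E' := R p (b ⊓ c') with hE'
  have hc'Z : c' ∈ (Z : Set (Subgroup G)) := by
    refine (hZmem _).2 ⟨a, ⟨S.mem_line.1, S.hne⟩, hc'.1, hc'.2.1, ?_, ?_⟩
    · rw [hc'.2.2]; exact hD'K
    · rw [Set.mem_singleton_iff, hc'.2.2]; exact hD'ne
  have hE'mem : E' ∈ conjs b E := (hZsub c' hc'Z).2.2
  have hEE' : E ≠ E' := by
    intro hcon
    have : c' ∈ fib p (conjs L M) b E := ⟨hc'.1, Ne.symm hbc', hcon.symm⟩
    rw [hfibE, Set.mem_singleton_iff] at this
    exact hcc' this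
  obtain ⟨e1, -, -, -⟩ := hExtE.cast
  have hiE : ii p E T = 1 := by
    rw [hvE, htE] at e1
    push_cast at e1
    have h3 : (p : ℤ) * ii p E T = p * 1 := by linarith
    exact_mod_cast mul_left_cancel₀ (by linarith : (p : ℤ) ≠ 0) h3
  have hblt := C.ext.card_conj_lt S.hb
  have hatE' : Atom p E T := atom_below C.good (hExb.card_lt.trans hblt) hExtE (by
    unfold mm; rw [hiE, htE]; push_cast; linarith)
  have hT'E : T ≤ E' := le_R_of_gen p (R_R p _) (le_inf
    (((R_le p _).trans inf_le_left).trans ((R_le p _).trans inf_le_right))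
    (((R_le p _).trans inf_le_right).trans (hc'.2.2 ▸ (R_le p _).trans inf_le_right)))
  have hRT : R p (E ⊓ E') = T := by
    rcases hatE' (R p (E ⊓ E')) (R_R p _)
      (le_R_of_gen p (R_R p _) (le_inf hExtE.full.1 hT'E)) ((R_le p _).trans inf_le_left) with
      h | h
    · exact h
    · exact absurd (hExb.eq_of_le (self_mem_conjs b E) hE'mem
        (h ▸ (R_le p _).trans inf_le_right)) hEE'
  refine (C.good b hblt E hExb).2.2 C.odd htY hmY' E (self_mem_conjs b E) E' hE'mem hEE' ?_ ?_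
  · rw [hRT]; exact hExtE.full.trans Fact.out hExb.full
  · rw [hRT, hvE, htE]

end CfsgLib.SylRatio
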