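import Cfsg.Agent.Lib.SylowRatio.Struct

/-!
Small pairs: lines, types, the clique case.
-/

set_option autoImplicit false

namespace CfsgLib.SylRatio

open Subgroup

variable {G : Type*} [Group G]

theorem vv_cj (g : G) (x D : Subgroup G) : vv (cj g x) (cj g D) = vv x D := by
  unfold vv
  rw [show conjs (cj g x) (cj g D) = cj g '' conjs x D from ?_,
    Set.ncard_image_of_injective _ (cj_injective g)]
  ext y
  constructor
  · rintro ⟨a, ha, rfl⟩
    refine ⟨cj (g⁻¹ * a * g) D, ⟨_, mem_cj.1 ha, rfl⟩, ?_⟩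
    simp only [← cj_mul]
    congr 1
    group
  · rintro ⟨_, ⟨a, ha, rfl⟩, rfl⟩
    refine ⟨g * a * g⁻¹, mem_cj.2 (by simpa [mul_assoc] using ha), ?_⟩
    simp only [← cj_mul]
    congr 1
    group

/-- the set-stabilizer of a set of subgroups -/
def setStab (B : Set (Subgroup G)) : Subgroup G where
  carrier := {g | cj g '' B = B}
  one_mem' := by simp
  mul_mem' := by
    intro a b (ha : cj a '' B = B) (hb : cj b '' B = B)
    show cj (a * b) '' B = B
    rw [show cj (a * b) = cj a ∘ cj b from funext (cj_mul a b), Set.image_comp, hb, ha]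
  inv_mem' := by
    intro a (ha : cj a '' B = B)
    show cj a⁻¹ '' B = B
    conv_lhs => rw [← ha, ← Set.image_comp]
    simp [Function.comp_def, cj_inv_cj]

variable (p : ℕ)

theorem tt_cj (g : G) (x D : Subgroup G) : tt p (cj g x) (cj g D) = tt p x D := by
  unfold tt; rw [vv_cj, nS_cj, nS_cj]

theorem ii_cj (g : G) (x D : Subgroup G) : ii p (cj g x) (cj g D) = ii p x D := by
  unfold ii; rw [vv_cj, tt_cj]

theorem R_cj_inf (g : G) (x y : Subgroup G) :
    R p (cj g x ⊓ cj g y) = cj g (R p (x ⊓ y)) := by rw [← cj_inf, R_cj]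

/-- the standing hypotheses -/
structure Ctx (L M : Subgroup G) : Prop where
  ext : Ext p L M
  good : GoodBelow p L
  odd : p ≠ 2
  ht : p + 1 ≤ tt p L M
  hm : mm p L M ≤ 2 * (p : ℤ) - 4
  atom : Atom p L M

/-- a small pair with `f` fixed points -/
structure Small (L M : Subgroup G) (f : ℕ) (a b : Subgroup G) : Prop where
  ha : a ∈ conjs L M
  hb : b ∈ conjs L M
  hne : a ≠ b
  cov : Full p (R p (a ⊓ b)) L
  hv : vv a (R p (a ⊓ b)) = f + p
  ht : tt p a (R p (a ⊓ b)) = f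

/-- the line of `D` -/
def line (X : Set (Subgroup G)) (D : Subgroup G) : Set (Subgroup G) := {z ∈ X | D ≤ z}

variable {p} [Finite G] [Fact p.Prime] {L M : Subgroup G}

theorem Ctx.hp3 (C : Ctx p L M) : (3 : ℤ) ≤ p := by
  have := two_le_p (p := p)
  have := C.odd
  exact_mod_cast (show 3 ≤ p by omega)

theorem Ctx.atom_at (C : Ctx p L M) {x : Subgroup G} (hx : x ∈ conjs L M) : Atom p L x := by
  obtain ⟨g, hg, rfl⟩ := hx
  intro M' hgen h1 h2
  have h3 := C.atom (cj g⁻¹ M') (by rw [R_cj, hgen])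
    (by rw [← cj_le_iff (a := g), cj_cj_inv]; exact h1)
    (by rw [← cj_le_iff (a := g), cj_cj_inv, cj_mem_of_mem (hg : g ∈ L)]; exact h2)
  rcases h3 with h | h
  · left; simp only; rw [← h, cj_cj_inv]
  · right; rw [← cj_cj_inv g M', h, cj_mem_of_mem (hg : g ∈ L)]

theorem Ctx.pair (C : Ctx p L M) {x y : Subgroup G} (hx : x ∈ conjs L M) (hy : y ∈ conjs L M)
    (hxy : x ≠ y) (hcov : Full p (R p (x ⊓ y)) L) :
    Ext p x (R p (x ⊓ y)) ∧ 0 ≤ mm p x (R p (x ⊓ y)) ∧
      mm p x (R p (x ⊓ y)) ≤ mm p L M + 1 ∧ Atom p x (R p (x ⊓ y)) := by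
  have hD := C.ext.child hx hy hxy hcov
  have hlt := C.ext.card_conj_lt hx
  have h0 : 0 ≤ mm p x (R p (x ⊓ y)) := hD.mt_iff.1 (C.good x hlt _ hD).1
  have h1 := C.ext.class_one C.good hx hD
  have hw : (1 : ℤ) ≤ (fib p (conjs L M) x (R p (x ⊓ y))).ncard := by
    have hne : (fib p (conjs L M) x (R p (x ⊓ y))).Nonempty := ⟨y, hy, Ne.symm hxy, rfl⟩
    exact_mod_cast (Set.ncard_pos (Set.toFinite _)).2 hne
  have h2 : mm p x (R p (x ⊓ y)) ≤ mm p L M + 1 := by nlinarith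
  refine ⟨hD, h0, h2, atom_below C.good hlt hD ?_⟩
  have := C.hm
  have := C.hp3
  linarith

theorem Ctx.max_pair (C : Ctx p L M) {x y z : Subgroup G} (hx : x ∈ conjs L M)
    (hy : y ∈ conjs L M) (hxy : x ≠ y) (hcov : Full p (R p (x ⊓ y)) L) (hz : z ∈ conjs L M)
    (hzx : z ≠ x) (hle : R p (x ⊓ y) ≤ z) : R p (x ⊓ z) = R p (x ⊓ y) := by
  obtain ⟨hD, -, -, hat⟩ := C.pair hx hy hxy hcov
  rcases hat (R p (x ⊓ z)) (R_R p _)
    (le_R_of_gen p (R_R p _) (le_inf ((R_le p _).trans inf_le_left) hle))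
    ((R_le p _).trans inf_le_left) with h | h
  · exact h
  · exact absurd (C.ext.eq_of_le hx hz (h ▸ (R_le p _).trans inf_le_right)) (Ne.symm hzx)

theorem Ctx.line_pair (C : Ctx p L M) {a b z u : Subgroup G} (ha : a ∈ conjs L M)
    (hb : b ∈ conjs L M) (hab : a ≠ b) (hcov : Full p (R p (a ⊓ b)) L)
    (hz : z ∈ line (conjs L M) (R p (a ⊓ b))) (hu : u ∈ line (conjs L M) (R p (a ⊓ b)))
    (hzu : z ≠ u) : R p (z ⊓ u) = R p (a ⊓ b) := by
  by_cases hza : z = a
  · subst hza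
    exact C.max_pair hz.1 hb hab hcov hu.1 (Ne.symm hzu) hu.2
  · have h1 : R p (a ⊓ z) = R p (a ⊓ b) := C.max_pair ha hb hab hcov hz.1 hza hz.2
    rw [inf_comm] at h1
    have := C.max_pair hz.1 ha hza (h1 ▸ hcov) hu.1 (Ne.symm hzu) (h1 ▸ hu.2)
    rw [this, h1]

theorem Ctx.line_diff (C : Ctx p L M) {a b z : Subgroup G} (ha : a ∈ conjs L M)
    (hb : b ∈ conjs L M) (hab : a ≠ b) (hcov : Full p (R p (a ⊓ b)) L)
    (hz : z ∈ line (conjs L M) (R p (a ⊓ b))) :
    fib p (conjs L M) z (R p (a ⊓ b)) = line (conjs L M) (R p (a ⊓ b)) \ {z} := by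
  ext u
  constructor
  · rintro ⟨h1, h2, h3⟩
    refine ⟨⟨h1, ?_⟩, h2⟩
    rw [← h3]; exact (R_le p _).trans inf_le_right
  · rintro ⟨h1, h2⟩
    exact ⟨h1.1, h2, C.line_pair ha hb hab hcov hz h1 (Ne.symm h2)⟩

theorem Small.mem_line {f : ℕ} {a b : Subgroup G} (S : Small p L M f a b) :
    a ∈ line (conjs L M) (R p (a ⊓ b)) ∧ b ∈ line (conjs L M) (R p (a ⊓ b)) :=
  ⟨⟨S.ha, (R_le p _).trans inf_le_left⟩, ⟨S.hb, (R_le p _).trans inf_le_right⟩⟩

theorem Small.ext_D {f : ℕ} {a b : Subgroup G} (S : Small p L M f a b) (C : Ctx p L M) :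
    Ext p a (R p (a ⊓ b)) ∧ ii p a (R p (a ⊓ b)) = 1 ∧
      mm p a (R p (a ⊓ b)) = (p : ℤ) - 1 - f ∧ 1 ≤ f ∧ f + 1 ≤ p ∧
      (nS p (R p (a ⊓ b)) : ℤ) * (f + p) = f * nS p a := by
  obtain ⟨hD, h0, -, -⟩ := C.pair S.ha S.hb S.hne S.cov
  obtain ⟨h1, h2⟩ := hD.vv_eq
  rw [S.hv, S.ht] at h1
  have hp := (Fact.out : p.Prime).pos
  have hi : ii p a (R p (a ⊓ b)) = 1 := by
    have : p * ii p a (R p (a ⊓ b)) = p * 1 := by omega
    exact Nat.eq_of_mul_eq_mul_left hp this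
  have hm : mm p a (R p (a ⊓ b)) = (p : ℤ) - 1 - f := by
    unfold mm; rw [hi, S.ht]; push_cast; ring
  have hf := hD.tt_pos
  rw [S.ht] at hf
  refine ⟨hD, hi, hm, hf, ?_, ?_⟩
  · rw [hm] at h0; omega
  · have := hD.mul_eq
    rw [S.ht, S.hv] at this
    have h' : ((f * nS p a : ℕ) : ℤ) = (((f + p) * nS p (R p (a ⊓ b)) : ℕ) : ℤ) := by rw [this]
    push_cast at h'
    linarith

/-- all points of the line of a small pair are of small type -/
theorem Ctx.small_line (C : Ctx p L M) {f : ℕ} {a b : Subgroup G} (S : Small p L M f a b)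
    {z u : Subgroup G} (hz : z ∈ line (conjs L M) (R p (a ⊓ b)))
    (hu : u ∈ line (conjs L M) (R p (a ⊓ b))) (hzu : z ≠ u) :
    R p (z ⊓ u) = R p (a ⊓ b) ∧ Small p L M f z u := by
  obtain ⟨hDa, hia, hma, hf1, hfp, hratio⟩ := S.ext_D C
  have hp := C.hp3
  set D := R p (a ⊓ b) with hD
  have hR : R p (z ⊓ u) = D := C.line_pair S.ha S.hb S.hne S.cov hz hu hzu
  refine ⟨hR, ?_⟩
  obtain ⟨hDz, h0z, hmz, -⟩ := C.pair hz.1 hu.1 hzu (hR ▸ S.cov)
  rw [hR] at hDz h0z hmz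
  have hn : (nS p z : ℤ) = nS p a := by rw [(C.ext.mem hz.1).2.1, (C.ext.mem S.ha).2.1]
  obtain ⟨e1, f1, g1, k1⟩ := hDz.cast
  have hnD : (0 : ℤ) < nS p D := hDz.nS_pos_int.1
  -- the numbers at `z` are `ii` times those at `a`
  have htz : (tt p z D : ℤ) = f * ii p z D := by
    have h1 : ((tt p z D : ℤ) * (f + p)) * nS p D = (f * vv z D) * nS p D := by
      calc ((tt p z D : ℤ) * (f + p)) * nS p D = tt p z D * (nS p D * (f + p)) := by ring
        _ = f * (tt p z D * nS p z) := by rw [hratio, hn]; ring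
        _ = (f * vv z D) * nS p D := by rw [g1]; ring
    have h2 := mul_right_cancel₀ hnD.ne' h1
    rw [e1] at h2
    have h3 : (p : ℤ) * tt p z D = p * (f * ii p z D) := by linarith
    exact mul_left_cancel₀ (by linarith) h3
  by_cases hi : ii p z D = 1
  · rw [hi, Nat.cast_one, mul_one] at htz
    have ht : tt p z D = f := by exact_mod_cast htz
    refine ⟨hz.1, hu.1, hzu, hR ▸ S.cov, ?_, ?_⟩
    · rw [hR, hDz.vv_eq.1, hi, ht, mul_one]
    · rw [hR, ht]
  exfalso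
  have hbig : (p : ℤ) - 1 ≤ mm p z D := by
    by_contra hlt
    exact hi ((C.good z (C.ext.card_conj_lt hz.1) D hDz).2.1 C.odd (by linarith))
  have haz : a ≠ z := by rintro rfl; exact hi hia
  have hfz : (fib p (conjs L M) z D).ncard = 1 := by
    have h1 := C.ext.class_one C.good hz.1 hDz
    have h2 : (fib p (conjs L M) z D).ncard ≤ 1 := by
      by_contra hlt
      have h3' : 2 ≤ (fib p (conjs L M) z D).ncard := by omega
      have h3 : (2 : ℤ) ≤ (fib p (conjs L M) z D).ncard := by exact_mod_cast h3'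
      have h4 := mul_le_mul h3 hbig (by linarith) (by linarith)
      linarith [C.hm]
    have h3 : (fib p (conjs L M) z D).Nonempty := by
      rw [C.line_diff S.ha S.hb S.hne S.cov hz]
      exact ⟨a, (S.mem_line).1, haz⟩
    have := (Set.ncard_pos (Set.toFinite _)).2 h3
    omega
  -- pairs of mixed type
  let P : Subgroup G → Subgroup G → Prop := fun x y =>
    x ∈ conjs L M ∧ y ∈ conjs L M ∧ x ≠ y ∧ Full p (R p (x ⊓ y)) L ∧
      (nS p (R p (x ⊓ y)) : ℤ) * (f + p) = f * nS p a ∧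
      ii p x (R p (x ⊓ y)) ≠ 1 ∧ ii p y (R p (x ⊓ y)) = 1
  let Bx : Subgroup G → Set (Subgroup G) := fun x => {y | P x y}
  let Ax : Subgroup G → Set (Subgroup G) := fun x => {y | P y x}
  have hPcj : ∀ g ∈ L, ∀ x y, P x y → P (cj g x) (cj g y) := by
    rintro g hg x y ⟨h1, h2, h3, h4, h5, h6, h7⟩
    refine ⟨cj_mem_conjs hg h1, cj_mem_conjs hg h2, fun hc => h3 (cj_injective g hc), ?_, ?_, ?_, ?_⟩
    · rw [R_cj_inf]; have := h4.cj g; rwa [cj_mem_of_mem hg] at this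
    · rw [R_cj_inf, nS_cj]; exact h5
    · rw [R_cj_inf, ii_cj]; exact h6
    · rw [R_cj_inf, ii_cj]; exact h7
  have hconstB : ∀ x ∈ conjs L M, (Bx x).ncard = (Bx z).ncard := by
    intro x hx
    rw [← conjs_eq_of_mem hz.1] at hx
    obtain ⟨g, hg, rfl⟩ := hx
    rw [← Set.ncard_image_of_injective (Bx z) (cj_injective g)]
    congr 1
    ext y
    constructor
    · intro h
      refine ⟨cj g⁻¹ y, ?_, cj_cj_inv g y⟩
      have := hPcj g⁻¹ (L.inv_mem hg) _ _ h
      rw [cj_inv_cj] at this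
      exact this
    · rintro ⟨y, hy, rfl⟩
      exact hPcj g hg _ _ hy
  have hconstA : ∀ x ∈ conjs L M, (Ax x).ncard = (Ax z).ncard := by
    intro x hx
    rw [← conjs_eq_of_mem hz.1] at hx
    obtain ⟨g, hg, rfl⟩ := hx
    rw [← Set.ncard_image_of_injective (Ax z) (cj_injective g)]
    congr 1
    ext y
    constructor
    · intro h
      refine ⟨cj g⁻¹ y, ?_, cj_cj_inv g y⟩
      have := hPcj g⁻¹ (L.inv_mem hg) _ _ h
      rw [cj_inv_cj] at this
      exact this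
    · rintro ⟨y, hy, rfl⟩
      exact hPcj g hg _ _ hy
  have hAB : (Ax z).ncard = (Bx z).ncard := by
    classical
    have hX := Set.toFinite (conjs L M)
    have h := Finset.card_mul_eq_card_mul (r := fun x y => P y x) (s := hX.toFinset)
      (t := hX.toFinset) (m := (Ax z).ncard) (n := (Bx z).ncard) ?_ ?_
    · exact Nat.eq_of_mul_eq_mul_left (Finset.card_pos.2 ⟨z, hX.mem_toFinset.2 hz.1⟩) h
    · intro x hx
      rw [← hconstA x (hX.mem_toFinset.1 hx), ← Set.ncard_coe_finset]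
      congr 1
      ext y
      simp only [Finset.coe_bipartiteAbove, Set.mem_setOf_eq, hX.mem_toFinset, Ax]
      exact ⟨fun h => h.2, fun h => ⟨h.1, h⟩⟩
    · intro x hx
      rw [← hconstB x (hX.mem_toFinset.1 hx), ← Set.ncard_coe_finset]
      congr 1
      ext y
      simp only [Finset.coe_bipartiteBelow, Set.mem_setOf_eq, hX.mem_toFinset, Bx]
      exact ⟨fun h => h.2, fun h => ⟨h.2.1, h⟩⟩
  have hsub : cls p (conjs L M) z D ⊆ Bx z := by
    rintro y ⟨hy, hyz, g, hg, hgy⟩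
    simp only at hgy
    have hy' : y ∈ fib p (conjs L M) z (cj g D) := ⟨hy, hyz, hgy.symm⟩
    rw [C.ext.fib_cj hz.1 hg] at hy'
    obtain ⟨y0, hy0, rfl⟩ := hy'
    obtain ⟨w0, hw0⟩ := Set.ncard_eq_one.1 hfz
    have ha' : a ∈ fib p (conjs L M) z D := by
      rw [C.line_diff S.ha S.hb S.hne S.cov hz]; exact ⟨(S.mem_line).1, haz⟩
    have hya : y0 = a := by
      rw [hw0, Set.mem_singleton_iff] at hy0 ha'
      rw [hy0, ha']
    subst hya
    have hgL : g ∈ L := (C.ext.mem hz.1).1.full.1 hg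
    have hza : P z y0 := by
      refine ⟨hz.1, S.ha, Ne.symm haz, ?_, ?_, ?_, ?_⟩
      · rw [hy0.2.2]; exact S.cov
      · rw [hy0.2.2]; exact hratio
      · rw [hy0.2.2]; exact hi
      · rw [hy0.2.2]; exact hia
    have := hPcj g hgL _ _ hza
    rwa [cj_mem_of_mem hg] at this
  have hle : ((cls p (conjs L M) z D).ncard : ℤ) ≤ (Bx z).ncard := by
    exact_mod_cast Set.ncard_le_ncard hsub (Set.toFinite _)
  set c : ℤ := ((p : ℤ) - 1) * nS p z - (2 * (p : ℤ) - 1) * nS p D with hc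
  have hcost : ∀ {x y : Subgroup G}, x ∈ conjs L M → y ∈ conjs L M → x ≠ y →
      Full p (R p (x ⊓ y)) L → (nS p (R p (x ⊓ y)) : ℤ) * (f + p) = f * nS p a →
      cst p x y = c := by
    intro x y hx hy hxy hcv hr
    have h1 : (nS p (R p (x ⊓ y)) : ℤ) = nS p D :=
      mul_right_cancel₀ (show ((f : ℤ) + p) ≠ 0 by positivity) (hr.trans hratio.symm)
    rw [C.ext.cst_cov hx hy hxy hcv, h1, hc, (C.ext.mem hx).2.1, (C.ext.mem hz.1).2.1]
  have htwo := C.ext.cost_two C.good hz.1 (S1 := Bx z) (S2 := Ax z) (c1 := c) (c2 := c)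
    (fun y hy => ⟨hy.2.1, Ne.symm hy.2.2.1, hcost hy.1 hy.2.1 hy.2.2.1 hy.2.2.2.1 hy.2.2.2.2.1⟩)
    (fun y hy => by
      obtain ⟨h1, h2, h3, h4, h5, -, -⟩ := hy
      rw [inf_comm] at h4 h5
      exact ⟨h1, h3, hcost h2 h1 (Ne.symm h3) h4 h5⟩)
    (fun y hy hy' => by
      obtain ⟨-, -, -, -, -, h6, -⟩ := hy
      obtain ⟨-, -, -, -, -, -, h7⟩ := hy'
      rw [inf_comm] at h7
      exact h6 h7)
  rw [hAB] at htwo
  have hc0 : 0 ≤ c := by
    have := (C.good z (C.ext.card_conj_lt hz.1) D hDz).1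
    unfold MT at this
    rw [hc]; linarith
  have h5 := mul_le_mul_of_nonneg_right hle hc0
  rw [hc, C.ext.cls_cost hz.1 hDz, ← hc, hfz, Nat.cast_one, one_mul] at h5
  have hpn : (0 : ℤ) < p * nS p z := mul_pos (by linarith) hDz.nS_pos_int.2
  have h6 : (p : ℤ) * nS p z * (2 * mm p z D) ≤ p * nS p z * (mm p L M + 1) := by linarith
  have h7 := le_of_mul_le_mul_left h6 hpn
  linarith [C.hm]

/-- the number of other points on the line -/
noncomputable def ww (L M a b : Subgroup G) (p : ℕ) : ℕ :=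
  (fib p (conjs L M) a (R p (a ⊓ b))).ncard

theorem Small.ww_pos {f : ℕ} {a b : Subgroup G} (S : Small p L M f a b) : 1 ≤ ww L M a b p :=
  (Set.ncard_pos (Set.toFinite _)).2 ⟨b, S.hb, Ne.symm S.hne, rfl⟩

theorem Ctx.line_card (C : Ctx p L M) {f : ℕ} {a b : Subgroup G} (S : Small p L M f a b) :
    (line (conjs L M) (R p (a ⊓ b))).ncard = ww L M a b p + 1 := by
  unfold ww
  rw [C.line_diff S.ha S.hb S.hne S.cov S.mem_line.1]
  exact (Set.ncard_sdiff_singleton_add_one S.mem_line.1 (Set.toFinite _)).symm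

theorem Ctx.fib_card_line (C : Ctx p L M) {f : ℕ} {a b z : Subgroup G} (S : Small p L M f a b)
    (hz : z ∈ line (conjs L M) (R p (a ⊓ b))) :
    (fib p (conjs L M) z (R p (a ⊓ b))).ncard = ww L M a b p := by
  have h1 := C.line_card S
  rw [C.line_diff S.ha S.hb S.hne S.cov hz]
  have := Set.ncard_sdiff_singleton_add_one hz (Set.toFinite (line (conjs L M) (R p (a ⊓ b))))
  omega

theorem Small.cj' {f : ℕ} {a b : Subgroup G} (S : Small p L M f a b) {g : G} (hg : g ∈ L) :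
    Small p L M f (cj g a) (cj g b) := by
  refine ⟨cj_mem_conjs hg S.ha, cj_mem_conjs hg S.hb, fun hc => S.hne (cj_injective g hc),
    ?_, ?_, ?_⟩
  · rw [R_cj_inf]; have := S.cov.cj g; rwa [cj_mem_of_mem hg] at this
  · rw [R_cj_inf, vv_cj]; exact S.hv
  · rw [R_cj_inf, tt_cj]; exact S.ht

theorem line_cj {D : Subgroup G} {g : G} (hg : g ∈ L) :
    line (conjs L M) (cj g D) = cj g '' line (conjs L M) D := by
  ext y
  constructor
  · rintro ⟨h1, h2⟩
    refine ⟨cj g⁻¹ y, ⟨cj_mem_conjs (L.inv_mem hg) h1, ?_⟩, cj_cj_inv g y⟩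
    rw [← cj_le_iff (a := g), cj_cj_inv]; exact h2
  · rintro ⟨y, ⟨h1, h2⟩, rfl⟩
    exact ⟨cj_mem_conjs hg h1, cj_mono g h2⟩

/-- the other lines through `a` of the same class -/
theorem Ctx.other_class (C : Ctx p L M) {f : ℕ} {a b : Subgroup G} (S : Small p L M f a b)
    {D' c : Subgroup G} (hD' : D' ∈ conjs a (R p (a ⊓ b)))
    (hc : c ∈ fib p (conjs L M) a D') :
    Small p L M f a c ∧ R p (a ⊓ c) = D' ∧
      (fib p (conjs L M) a D').ncard = ww L M a b p ∧
      (line (conjs L M) D').ncard = ww L M a b p + 1 := by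
  obtain ⟨g, hg, rfl⟩ := hD'
  have hgL : g ∈ L := (C.ext.mem S.ha).1.full.1 hg
  refine ⟨⟨S.ha, hc.1, Ne.symm hc.2.1, ?_, ?_, ?_⟩, hc.2.2, ?_, ?_⟩
  · rw [hc.2.2]; have := S.cov.cj g; rwa [cj_mem_of_mem hgL] at this
  · rw [hc.2.2]; simp only
    have h1 := vv_cj g a (R p (a ⊓ b))
    rw [cj_mem_of_mem hg] at h1
    rw [h1]; exact S.hv
  · rw [hc.2.2]; simp only
    have h1 := tt_cj p g a (R p (a ⊓ b))
    rw [cj_mem_of_mem hg] at h1
    rw [h1]; exact S.ht
  · rw [C.ext.fib_cj S.ha hg, Set.ncard_image_of_injective _ (cj_injective g)]; rfl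
  · rw [line_cj hgL, Set.ncard_image_of_injective _ (cj_injective g), C.line_card S]

/-- transitivity of `D` on the remaining classes -/
theorem Ctx.D_orbit (C : Ctx p L M) {f : ℕ} {a b : Subgroup G} (S : Small p L M f a b)
    {Q : Subgroup G} (hQ : Q ∈ syl p (R p (a ⊓ b))) :
    (fixS Q (conjs a (R p (a ⊓ b)) \ {R p (a ⊓ b)})).ncard = f - 1 ∧
    (∀ y ∈ conjs a (R p (a ⊓ b)) \ {R p (a ⊓ b)},
      ∀ y' ∈ conjs a (R p (a ⊓ b)) \ {R p (a ⊓ b)}, ∃ e ∈ R p (a ⊓ b), cj e y = y') ∧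
    (2 ≤ f → ∀ y ∈ conjs a (R p (a ⊓ b)) \ {R p (a ⊓ b)},
      Ext p (R p (a ⊓ b)) (R p (R p (a ⊓ b) ⊓ y)) ∧
      vv (R p (a ⊓ b)) (R p (R p (a ⊓ b) ⊓ y)) = f - 1 + p ∧
      tt p (R p (a ⊓ b)) (R p (R p (a ⊓ b) ⊓ y)) = f - 1 ∧
      ∀ y' ∈ conjs a (R p (a ⊓ b)) \ {R p (a ⊓ b)},
        R p (R p (a ⊓ b) ⊓ y) ≤ y' → y' = y) := by
  obtain ⟨hDa, -, -, hf1, -, -⟩ := S.ext_D C
  set D := R p (a ⊓ b) with hD
  have haL := (C.ext.mem S.ha).1.full
  have hQa := mem_syl_of_full p hDa.full hQ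
  have hfix : (fixS Q (conjs a D \ {D})).ncard = f - 1 := by
    have he : fixS Q (conjs a D \ {D}) = fixS Q (conjs a D) \ {D} := by
      ext y; simp [fixS]; tauto
    have hm : D ∈ fixS Q (conjs a D) := ⟨self_mem_conjs a D, hQ.2.1⟩
    rw [he]
    have := Set.ncard_sdiff_singleton_add_one hm (Set.toFinite _)
    rw [hDa.fix_eq hQa, S.ht] at this
    omega
  have hcard : (conjs a D \ {D}).ncard = f - 1 + p := by
    have := Set.ncard_sdiff_singleton_add_one (self_mem_conjs a D) (Set.toFinite _)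
    have hv : (conjs a D).ncard = f + p := S.hv
    omega
  have hfullY : ∀ y ∈ conjs a D \ {D}, Full p y L := fun y hy =>
    (hDa.mem hy.1).1.full.trans Fact.out haL
  have horb := orbit_lemma p (L := L) S.cov (R_R p _) (Y := conjs a D \ {D})
    hfullY
    (fun e he y hy => ⟨cj_mem_conjs (hDa.full.1 he) hy.1, fun hc => hy.2 (by
      rw [Set.mem_singleton_iff] at hc ⊢
      apply cj_injective e
      rw [hc, cj_mem_of_mem he])⟩)
    (fun y hy hle => hy.2 (hDa.eq_of_le (self_mem_conjs a D) hy.1 hle).symm) hQ hfix hcard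
  exact ⟨hfix, horb.1, fun hf2 => horb.2 (by omega)⟩

theorem Ctx.sup_eq (C : Ctx p L M) {a b : Subgroup G} (ha : a ∈ conjs L M) (hb : b ∈ conjs L M)
    (hab : a ≠ b) : a ⊔ b = L := by
  have hgen := R_sup p (C.ext.mem ha).1.genM (C.ext.mem hb).1.genM
  rcases C.atom_at ha (a ⊔ b) hgen le_sup_left
    (sup_le (C.ext.mem ha).1.full.1 (C.ext.mem hb).1.full.1) with h | h
  · exact absurd (C.ext.eq_of_le hb ha (h ▸ le_sup_right)) (Ne.symm hab)
  · exact h

theorem Ctx.eq_all (C : Ctx p L M) {B : Set (Subgroup G)} {a b z : Subgroup G}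
    (ha : a ∈ conjs L M) (hb : b ∈ conjs L M) (hab : a ≠ b) (hz : z ∈ B)
    (hzX : z ∈ conjs L M) (hBa : a ≤ setStab B) (hBb : b ≤ setStab B) : conjs L M ⊆ B := by
  intro y hy
  rw [← conjs_eq_of_mem hzX] at hy
  obtain ⟨g, hg, rfl⟩ := hy
  have hgB : g ∈ setStab B := sup_le hBa hBb (by rw [C.sup_eq ha hb hab]; exact hg)
  have : cj g '' B = B := hgB
  rw [← this]
  exact ⟨z, hz, rfl⟩

theorem Ctx.cls_stab (C : Ctx p L M) {a D : Subgroup G} (ha : a ∈ conjs L M) :
    a ≤ setStab (cls p (conjs L M) a D) ∧ a ≤ setStab (insert a (cls p (conjs L M) a D)) := by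
  have key : ∀ g ∈ a, ∀ y ∈ cls p (conjs L M) a D, cj g y ∈ cls p (conjs L M) a D := by
    rintro g hg y ⟨h1, h2, h3⟩
    refine ⟨cj_mem_conjs ((C.ext.mem ha).1.full.1 hg) h1, fun hc => h2 (cj_injective g ?_), ?_⟩
    · rw [hc, cj_mem_of_mem hg]
    · conv in R p (a ⊓ cj g y) => rw [← cj_mem_of_mem hg]
      rw [R_cj_inf]
      exact cj_mem_conjs hg h3
  have h1 : ∀ g ∈ a, cj g '' cls p (conjs L M) a D = cls p (conjs L M) a D := by
    intro g hg
    refine Set.eq_of_subset_of_ncard_le ?_ ?_ (Set.toFinite _)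
    · rintro _ ⟨y, hy, rfl⟩; exact key g hg y hy
    · rw [Set.ncard_image_of_injective _ (cj_injective g)]
  refine ⟨fun g hg => h1 g hg, fun g hg => ?_⟩
  show cj g '' _ = _
  rw [Set.image_insert_eq, h1 g hg, cj_mem_of_mem hg]

/-- the clique case is impossible -/
theorem Ctx.clique_false (C : Ctx p L M) {f : ℕ} {a b : Subgroup G} (S : Small p L M f a b)
    (hcl : ∀ D' ∈ conjs a (R p (a ⊓ b)), D' ≠ R p (a ⊓ b) →
      ∀ c ∈ fib p (conjs L M) a D', R p (b ⊓ c) ∈ conjs b (R p (a ⊓ b))) : False := by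
  obtain ⟨hDa, -, -, hf1, hfp, -⟩ := S.ext_D C
  have hp := two_le_p (p := p)
  have hDb : Small p L M f b a := (C.small_line S S.mem_line.2 S.mem_line.1 (Ne.symm S.hne)).2
  have hba : R p (b ⊓ a) = R p (a ⊓ b) := by rw [inf_comm]
  set D := R p (a ⊓ b) with hD
  set w := ww L M a b p with hw
  have hSa : (cls p (conjs L M) a D).ncard = (f + p) * w := by
    rw [C.ext.cls_card S.ha, S.hv]; rfl
  have hSb : (cls p (conjs L M) b D).ncard = (f + p) * w := by
    rw [C.ext.cls_card S.hb, C.fib_card_line S S.mem_line.2]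
    congr 1
    rw [← hba]; exact hDb.hv
  set B := insert a (cls p (conjs L M) a D) with hB
  have hbS : b ∈ cls p (conjs L M) a D := ⟨S.hb, Ne.symm S.hne, self_mem_conjs a D⟩
  have haS : a ∉ cls p (conjs L M) a D := fun h => h.2.1 rfl
  have hsub : B \ {b} ⊆ cls p (conjs L M) b D := by
    rintro y ⟨hy, hyb⟩
    rcases hy with rfl | hy
    · refine ⟨S.ha, S.hne, ?_⟩
      rw [hba]; exact self_mem_conjs b D
    · obtain ⟨hyX, hya, hyD⟩ := hy
      refine ⟨hyX, hyb, ?_⟩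
      by_cases hDy : R p (a ⊓ y) = D
      · have hyl : y ∈ line (conjs L M) D :=
          ⟨hyX, hDy ▸ (R_le p _).trans inf_le_right⟩
        rw [C.line_pair S.ha S.hb S.hne S.cov S.mem_line.2 hyl (Ne.symm hyb)]
        exact self_mem_conjs b D
      · exact hcl _ hyD hDy y ⟨hyX, hya, rfl⟩
  have hBcard : (B \ {b}).ncard = (f + p) * w := by
    have h1 : B.ncard = (f + p) * w + 1 := by
      rw [hB, Set.ncard_insert_of_notMem haS (Set.toFinite _), hSa]
    have h2 := Set.ncard_sdiff_singleton_add_one (s := B) (a := b) (Set.mem_insert_of_mem _ hbS)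
      (Set.toFinite _)
    omega
  have hBeq : B \ {b} = cls p (conjs L M) b D :=
    Set.eq_of_subset_of_ncard_le hsub (by rw [hBcard, hSb]) (Set.toFinite _)
  have hBb : B = insert b (cls p (conjs L M) b D) := by
    rw [← hBeq, Set.insert_sdiff_singleton, Set.insert_eq_of_mem]
    exact Set.mem_insert_of_mem _ hbS
  have hall : conjs L M ⊆ B := by
    refine C.eq_all S.ha S.hb S.hne (z := a) (Set.mem_insert _ _) S.ha (C.cls_stab S.ha).2 ?_
    rw [hBb]; exact (C.cls_stab S.hb).2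
  -- the total counts
  obtain ⟨Q, hQ⟩ := syl_nonempty p D
  have hQa := mem_syl_of_full p hDa.full hQ
  have hQL := mem_syl_of_full p (C.ext.mem S.ha).1.full hQa
  have ht : tt p L M = f * w + 1 := by
    have he : fixS Q (conjs L M) = insert a (fixS Q (cls p (conjs L M) a D)) := by
      ext y
      constructor
      · rintro ⟨h1, h2⟩
        rcases hall h1 with rfl | h
        · exact Set.mem_insert _ _
        · exact Set.mem_insert_of_mem _ ⟨h, h2⟩
      · rintro (rfl | ⟨h1, h2⟩)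
        · exact ⟨S.ha, hQa.2.1⟩
        · exact ⟨h1.1, h2⟩
    rw [← C.ext.fix_eq hQL, he, Set.ncard_insert_of_notMem (fun h => haS h.1) (Set.toFinite _),
      C.ext.fixS_cls S.ha hDa hQa, S.ht]
    rfl
  have htp := C.ht
  -- every pair is on a line of size `w + 1`
  have hpairs : ∀ x ∈ conjs L M, ∀ y ∈ conjs L M, x ≠ y →
      Small p L M f x y ∧ (line (conjs L M) (R p (x ⊓ y))).ncard = w + 1 := by
    intro x hx y hy hxy
    rw [← conjs_eq_of_mem S.ha] at hx
    obtain ⟨g, hg, rfl⟩ := hx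
    simp only at hxy ⊢
    set y0 := cj g⁻¹ y with hy0
    have hy0X : y0 ∈ conjs L M := cj_mem_conjs (L.inv_mem hg) hy
    have hy0a : y0 ≠ a := fun hc => hxy (by rw [← hc, hy0, cj_cj_inv])
    rcases hall hy0X with h | h
    · exact absurd h hy0a
    obtain ⟨S', hR', -, hl'⟩ := C.other_class S h.2.2 ⟨h.1, h.2.1, rfl⟩
    have hyy : cj g y0 = y := cj_cj_inv g y
    refine ⟨hyy ▸ S'.cj' hg, ?_⟩
    rw [← hyy, R_cj_inf, line_cj hg, Set.ncard_image_of_injective _ (cj_injective g)]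
    exact hl'
  by_cases hf2 : 2 ≤ f
  · -- a third point on the line of `b, c`
    have hw2 : 2 ≤ w := by
      by_contra hlt
      have : f * w ≤ f * 1 := Nat.mul_le_mul_left f (by omega)
      omega
    obtain ⟨hfix, -, horb⟩ := C.D_orbit S hQ
    rw [← hD] at hfix
    obtain ⟨D', hD'⟩ : (fixS Q (conjs a D \ {D})).Nonempty :=
      (Set.ncard_pos (Set.toFinite _)).1 (by omega)
    obtain ⟨hD'K, hD'ne⟩ := hD'.1
    rw [Set.mem_singleton_iff] at hD'ne
    obtain ⟨g, hg, hgD⟩ := hD'K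
    obtain ⟨c, hc⟩ : (fib p (conjs L M) a D').Nonempty := by
      rw [← hgD, C.ext.fib_cj S.ha hg]
      exact ⟨cj g b, b, ⟨S.hb, Ne.symm S.hne, rfl⟩, rfl⟩
    have hD'K' : D' ∈ conjs a D := ⟨g, hg, hgD⟩
    obtain ⟨Sc, hRc, -, -⟩ := C.other_class S hD'K' hc
    have hbc : b ≠ c := by rintro rfl; exact hD'ne hRc.symm
    obtain ⟨hExtT, -, -, hinj⟩ := horb hf2 D' ⟨hD'K', hD'ne⟩
    set T := R p (D ⊓ D') with hT
    obtain ⟨Sbc, hlbc⟩ := hpairs b S.hb c hc.1 hbc
    set E := R p (b ⊓ c) with hE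
    obtain ⟨d, hd, hdbc⟩ : ((line (conjs L M) E) \ {b, c}).Nonempty := by
      rw [Set.nonempty_iff_ne_empty]
      intro he
      rw [Set.sdiff_eq_empty] at he
      have h1 := Set.ncard_le_ncard he (Set.toFinite _)
      rw [hlbc] at h1
      have := Set.ncard_pair hbc
      omega
    simp only [Set.mem_insert_iff, Set.mem_singleton_iff, not_or] at hdbc
    have hTE : T ≤ E := le_R_of_gen p (R_R p _) (le_inf
      (((R_le p _).trans inf_le_left).trans ((R_le p _).trans inf_le_right))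
      (((R_le p _).trans inf_le_right).trans (hRc ▸ (R_le p _).trans inf_le_right)))
    have hEa : ¬ E ≤ a := by
      intro hle
      have h1 : R p (b ⊓ a) = E :=
        C.max_pair S.hb hc.1 hbc Sbc.cov S.ha S.hne hle
      rw [hba] at h1
      have h2 : D ≤ c := by rw [h1]; exact (R_le p _).trans inf_le_right
      have h3 := C.max_pair S.ha S.hb S.hne S.cov hc.1 hc.2.1 h2
      exact hD'ne (by rw [← hRc, h3])
    have hda : d ≠ a := fun h => hEa (h ▸ hd.2)
    rcases hall hd.1 with h | h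
    · exact hda h
    set D'' := R p (a ⊓ d) with hD''
    have hTD'' : T ≤ D'' := le_R_of_gen p (R_R p _)
      (le_inf (((R_le p _).trans inf_le_left).trans hDa.full.1) (hTE.trans hd.2))
    by_cases hDD : D'' = D
    · have hdl : d ∈ line (conjs L M) D :=
        ⟨hd.1, hDD ▸ (R_le p _).trans inf_le_right⟩
      have h1 : R p (b ⊓ d) = D :=
        C.line_pair S.ha S.hb S.hne S.cov S.mem_line.2 hdl (Ne.symm hdbc.1)
      have h2 : R p (b ⊓ d) = E :=
        C.max_pair S.hb hc.1 hbc Sbc.cov hd.1 hdbc.1 hd.2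
      exact hEa (by rw [← h2, h1]; exact hDa.full.1)
    · have h3 : D'' = D' := hinj D'' ⟨h.2.2, hDD⟩ hTD''
      have hdl : d ∈ line (conjs L M) D' :=
        ⟨hd.1, h3 ▸ (R_le p _).trans inf_le_right⟩
      have hcl' : c ∈ line (conjs L M) (R p (a ⊓ c)) := Sc.mem_line.2
      have h1 : R p (c ⊓ d) = R p (a ⊓ c) :=
        C.line_pair S.ha hc.1 (Ne.symm hc.2.1) Sc.cov hcl' (hRc.symm ▸ hdl) (Ne.symm hdbc.2)
      have hcb : R p (c ⊓ b) = E := by rw [inf_comm]
      have h2 : R p (c ⊓ d) = E := by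
        have := C.max_pair hc.1 S.hb (Ne.symm hbc) (hcb ▸ Sbc.cov) hd.1 hdbc.2 (hcb ▸ hd.2)
        rw [this, hcb]
      exact hEa (by rw [← h2, h1]; exact (R_le p _).trans inf_le_left)
  · -- `f = 1`: the lines are long
    have hf : f = 1 := by omega
    subst hf
    obtain ⟨x, hx, hQx⟩ : ∃ x ∈ conjs L M, ¬ Q ≤ x := by
      by_contra hne
      push Not at hne
      have : fixS Q (conjs L M) = conjs L M := by
        ext y; exact ⟨fun h => h.1, fun h => ⟨h, hne y h⟩⟩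
      have h2 := C.ext.fix_eq hQL
      rw [this] at h2
      exact (C.ext.tt_lt).ne h2.symm
    obtain ⟨σ, hσ, hσx⟩ : ∃ σ ∈ Q, cj σ x ≠ x := by
      by_contra hne
      push Not at hne
      exact hQx ((fix_iff p hQ.1 hQL.2.1 (C.ext.mem hx).1.full).2 hne)
    set y := cj σ x with hy
    have hyX : y ∈ conjs L M := cj_mem_conjs (hQL.2.1 hσ) hx
    obtain ⟨Sxy, hl⟩ := hpairs x hx y hyX (Ne.symm hσx)
    set F := R p (x ⊓ y) with hF
    -- the line meets the line of `D`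
    obtain ⟨z, hzF, hzD⟩ : ∃ z ∈ line (conjs L M) F, D ≤ z := by
      by_cases haF : a ∈ line (conjs L M) F
      · exact ⟨a, haF, hDa.full.1⟩
      by_contra hne
      push Not at hne
      let φ : Subgroup G → Subgroup G := fun z => R p (a ⊓ z)
      have hmaps : ∀ z ∈ line (conjs L M) F, φ z ∈ conjs a D \ {D} := by
        intro z hz
        have hza : z ≠ a := fun h => haF (h ▸ hz)
        rcases hall hz.1 with h | h
        · exact absurd h hza
        refine ⟨h.2.2, fun hc => hne z hz ?_⟩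
        rw [Set.mem_singleton_iff] at hc
        rw [← hc]; exact (R_le p _).trans inf_le_right
      have hinjφ : Set.InjOn φ (line (conjs L M) F) := by
        intro z1 hz1 z2 hz2 he
        by_contra h12
        have hz1a : z1 ≠ a := fun h => haF (h ▸ hz1)
        obtain ⟨S1, -⟩ := hpairs a S.ha z1 hz1.1 (Ne.symm hz1a)
        have hz2' : z2 ∈ line (conjs L M) (R p (a ⊓ z1)) :=
          ⟨hz2.1, by
            show R p (a ⊓ z1) ≤ z2
            rw [show R p (a ⊓ z1) = R p (a ⊓ z2) from he]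
            exact (R_le p _).trans inf_le_right⟩
        have h1 := C.line_pair S.ha hz1.1 (Ne.symm hz1a) S1.cov S1.mem_line.2 hz2' h12
        have h2 := C.line_pair hx hyX (Ne.symm hσx) Sxy.cov hz1 hz2 h12
        exact haF ⟨S.ha, by rw [hF, ← h2, h1]; exact (R_le p _).trans inf_le_left⟩
      have h1 : (φ '' line (conjs L M) F).ncard ≤ (conjs a D \ {D}).ncard :=
        Set.ncard_le_ncard (Set.image_subset_iff.2 hmaps) (Set.toFinite _)
      rw [Set.InjOn.ncard_image hinjφ, hl] at h1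
      have h2 := Set.ncard_sdiff_singleton_add_one (self_mem_conjs a D) (Set.toFinite _)
      have h3 : (conjs a D).ncard = 1 + p := S.hv
      omega
    have hQz : Q ≤ z := hQ.2.1.trans hzD
    have hzx : z ≠ x := fun h => hQx (h ▸ hQz)
    have hzy : z ≠ y := by
      intro h
      apply hσx
      apply cj_injective σ
      rw [← hy, ← h, cj_mem_of_mem (hQz hσ)]
    have hFz : R p (z ⊓ x) = F :=
      C.line_pair hx hyX (Ne.symm hσx) Sxy.cov hzF Sxy.mem_line.1 hzx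
    have hFy : R p (z ⊓ y) = F :=
      C.line_pair hx hyX (Ne.symm hσx) Sxy.cov hzF Sxy.mem_line.2 hzy
    have hFσ : cj σ F = F := by
      conv_lhs => rw [← hFz]
      rw [← R_cj_inf, cj_mem_of_mem (hQz hσ), ← hy, hFy]
    have hσF : σ ∈ F :=
      mem_of_normalizing p Sxy.cov (hQL.2.1 hσ) (pel_of_mem p hQ.1 hσ) hFσ
    exact hσx (cj_mem_of_mem ((R_le p _).trans inf_le_left hσF))

end CfsgLib.SylRatio
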