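import Cfsg.Agent.Lib.SylowRatio.Count

/-!
Defects, costs of pairs, atoms.
-/

set_option autoImplicit false

namespace CfsgLib.SylRatio

open Subgroup

variable {G : Type*} [Group G] (p : ℕ)

/-- the bound -/
def MT (L M : Subgroup G) : Prop :=
  (2 * (p : ℤ) - 1) * (nS p M : ℤ) ≤ ((p : ℤ) - 1) * (nS p L : ℤ)

/-- small defect forces a single moved block -/
def BB (L M : Subgroup G) : Prop := p ≠ 2 → mm p L M ≤ (p : ℤ) - 2 → ii p L M = 1

/-- no small pairs -/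
def NS (L M : Subgroup G) : Prop :=
  p ≠ 2 → p + 1 ≤ tt p L M → mm p L M ≤ 2 * (p : ℤ) - 4 →
    ∀ x ∈ conjs L M, ∀ y ∈ conjs L M, x ≠ y → Full p (R p (x ⊓ y)) L →
      vv x (R p (x ⊓ y)) = tt p x (R p (x ⊓ y)) + p → False

/-- the induction hypothesis -/
def Good (L : Subgroup G) : Prop := ∀ M, Ext p L M → MT p L M ∧ BB p L M ∧ NS p L M

/-- everything smaller than `L` is good -/
def GoodBelow (L : Subgroup G) : Prop :=
  ∀ L' : Subgroup G, Nat.card L' < Nat.card L → Good p L'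

/-- `M` is maximal among the subgroups of `L` generated by `p`-elements -/
def Atom (L M : Subgroup G) : Prop :=
  ∀ M' : Subgroup G, R p M' = M' → M ≤ M' → M' ≤ L → M' = M ∨ M' = L

/-- the cost of the ordered pair `(x, y)` -/
noncomputable def cst (x y : Subgroup G) : ℤ :=
  ((p : ℤ) - 1) * (nS p x : ℤ) - (2 * (p : ℤ) - 1) * ({Q ∈ syl p x | Q ≤ y}.ncard : ℤ)

/-- the points `y` whose pair subgroup is `D` -/
def fib (X : Set (Subgroup G)) (x D : Subgroup G) : Set (Subgroup G) :=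
  {y ∈ X | y ≠ x ∧ R p (x ⊓ y) = D}

/-- the points `y` whose pair subgroup is conjugate to `D` in `x` -/
def cls (X : Set (Subgroup G)) (x D : Subgroup G) : Set (Subgroup G) :=
  {y ∈ X | y ≠ x ∧ R p (x ⊓ y) ∈ conjs x D}

variable {p} [Finite G] [Fact p.Prime]

theorem two_le_p : 2 ≤ p := (Fact.out : p.Prime).two_le

theorem Ext.nS_pos_int {L M : Subgroup G} (_h : Ext p L M) :
    (0 : ℤ) < nS p M ∧ (0 : ℤ) < nS p L :=
  ⟨by exact_mod_cast nS_pos p M, by exact_mod_cast nS_pos p L⟩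

theorem Ext.cast {L M : Subgroup G} (h : Ext p L M) :
    (vv L M : ℤ) = tt p L M + p * ii p L M ∧ (1 : ℤ) ≤ ii p L M ∧
      (tt p L M : ℤ) * nS p L = vv L M * nS p M ∧ (1 : ℤ) ≤ tt p L M :=
  ⟨by exact_mod_cast h.vv_eq.1, by exact_mod_cast h.vv_eq.2, by exact_mod_cast h.mul_eq,
    by exact_mod_cast h.tt_pos⟩

/-- `vv` times the cost is `p n mm` -/
theorem Ext.cost_eq {L M : Subgroup G} (h : Ext p L M) :
    (vv L M : ℤ) * (((p : ℤ) - 1) * nS p L - (2 * (p : ℤ) - 1) * nS p M) =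
      p * nS p L * mm p L M := by
  obtain ⟨h1, -, h3, -⟩ := h.cast
  unfold mm
  have : (vv L M : ℤ) * ((2 * (p : ℤ) - 1) * nS p M) = (2 * p - 1) * (tt p L M * nS p L) := by
    rw [h3]; ring
  rw [mul_sub, this, h1]
  ring

theorem Ext.mt_iff {L M : Subgroup G} (h : Ext p L M) : MT p L M ↔ 0 ≤ mm p L M := by
  have hc := h.cost_eq
  obtain ⟨-, hn⟩ := h.nS_pos_int
  have hp : (0 : ℤ) < p := by exact_mod_cast (Fact.out : p.Prime).pos
  have hv : (0 : ℤ) < vv L M := by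
    have := h.tt_lt
    exact_mod_cast (Nat.lt_of_le_of_lt (Nat.zero_le _) this)
  unfold MT
  constructor
  · intro hmt
    by_contra hneg
    rw [not_le] at hneg
    have h1 : (p : ℤ) * nS p L * mm p L M < 0 := mul_neg_of_pos_of_neg (mul_pos hp hn) hneg
    have h2 := mul_nonneg hv.le (sub_nonneg.2 hmt)
    linarith
  · intro hmm
    by_contra hneg
    rw [not_le] at hneg
    have h1 : (0 : ℤ) ≤ p * nS p L * mm p L M := mul_nonneg (mul_pos hp hn).le hmm
    have h2 := mul_neg_of_pos_of_neg hv (sub_neg.2 hneg)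
    linarith

theorem Ext.card_lt {L M : Subgroup G} (h : Ext p L M) : Nat.card M < Nat.card L := by
  refine lt_of_le_of_ne (Subgroup.card_le_of_le h.full.1) fun hc => h.ne ?_
  exact Subgroup.eq_of_le_of_card_ge h.full.1 hc.ge

/-- The atom lemma. -/
theorem atom_of_mt {L M : Subgroup G} (h : Ext p L M)
    (hup : ∀ M', Ext p L M' → M < M' → MT p L M')
    (hlow : ∀ M', Ext p M' M → Nat.card M' < Nat.card L → MT p M' M)
    (hm : mm p L M ≤ 2 * (p : ℤ) - 2) : Atom p L M := by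
  intro M' hgen hMM' hM'L
  by_contra hcon
  rw [not_or] at hcon
  have h2 : Ext p L M' := ⟨h.full.right hMM' hM'L, hcon.2, h.genL, hgen⟩
  have h1 : Ext p M' M := ⟨h.full.left hMM' hM'L, Ne.symm hcon.1, hgen, h.genM⟩
  have hA := hup M' h2 (lt_of_le_of_ne hMM' (Ne.symm hcon.1))
  have hB := hlow M' h1 h2.card_lt
  obtain ⟨Q, hQ⟩ := syl_nonempty p M
  have hQ' := mem_syl_of_full p h1.full hQ
  have hQL := mem_syl_of_full p h.full hQ
  have ht1 : tt p M' M ≤ tt p L M := by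
    rw [← h1.fix_eq hQ', ← h.fix_eq hQL]
    refine Set.ncard_le_ncard ?_ (Set.toFinite _)
    rintro y ⟨⟨g, hg, rfl⟩, hy⟩
    exact ⟨⟨g, hM'L hg, rfl⟩, hy⟩
  obtain ⟨e1, f1, g1, k1⟩ := h.cast
  obtain ⟨e2, f2, g2, k2⟩ := h1.cast
  have ht1' : (tt p M' M : ℤ) ≤ tt p L M := by exact_mod_cast ht1
  have hn := h.nS_pos_int
  have hp : (2 : ℤ) ≤ p := by exact_mod_cast (two_le_p (p := p))
  unfold MT at hA hB
  set t : ℤ := (tt p L M : ℤ)
  set v : ℤ := (vv L M : ℤ)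
  set t1 : ℤ := (tt p M' M : ℤ)
  set v1 : ℤ := (vv M' M : ℤ)
  set i : ℤ := (ii p L M : ℤ) with hi
  set i1 : ℤ := (ii p M' M : ℤ)
  set nM : ℤ := (nS p M : ℤ)
  set nL : ℤ := (nS p L : ℤ)
  set nM' : ℤ := (nS p M' : ℤ)
  set P : ℤ := (p : ℤ)
  -- first inequality
  have i1' : t * v1 * (2 * P - 1) ≤ (P - 1) * v * t1 := by
    have h3 := mul_le_mul_of_nonneg_left hA (mul_nonneg (by linarith : (0 : ℤ) ≤ t)
      (by linarith : (0 : ℤ) ≤ t1))
    have h4 : (t * v1 * (2 * P - 1)) * nM ≤ ((P - 1) * v * t1) * nM := by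
      calc (t * v1 * (2 * P - 1)) * nM = t * (v1 * nM) * (2 * P - 1) := by ring
        _ = t * t1 * ((2 * P - 1) * nM') := by rw [← g2]; ring
        _ ≤ t * t1 * ((P - 1) * nL) := h3
        _ = (P - 1) * t1 * (t * nL) := by ring
        _ = ((P - 1) * v * t1) * nM := by rw [g1]; ring
    exact le_of_mul_le_mul_right h4 hn.1
  have i2' : t * (2 * P - 1) ^ 2 ≤ (P - 1) ^ 2 * v := by
    have h3 : (2 * P - 1) ^ 2 * nM ≤ (P - 1) ^ 2 * nL := by
      calc (2 * P - 1) ^ 2 * nM = (2 * P - 1) * ((2 * P - 1) * nM) := by ring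
        _ ≤ (2 * P - 1) * ((P - 1) * nM') := mul_le_mul_of_nonneg_left hB (by linarith)
        _ = (P - 1) * ((2 * P - 1) * nM') := by ring
        _ ≤ (P - 1) * ((P - 1) * nL) := mul_le_mul_of_nonneg_left hA (by linarith)
        _ = (P - 1) ^ 2 * nL := by ring
    have h4 : (t * (2 * P - 1) ^ 2) * nM ≤ ((P - 1) ^ 2 * v) * nM := by
      calc (t * (2 * P - 1) ^ 2) * nM = t * ((2 * P - 1) ^ 2 * nM) := by ring
        _ ≤ t * ((P - 1) ^ 2 * nL) := mul_le_mul_of_nonneg_left h3 (by linarith)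
        _ = (P - 1) ^ 2 * (t * nL) := by ring
        _ = ((P - 1) ^ 2 * v) * nM := by rw [g1]; ring
    exact le_of_mul_le_mul_right h4 hn.1
  have hi3 : 3 ≤ i := by
    by_contra hlt
    rw [e1, e2] at i1'
    have h5 : t * (t1 + P) * (2 * P - 1) ≤ (P - 1) * (t + P * i) * t1 := by
      refine le_trans ?_ i1'
      have : t1 + P ≤ t1 + P * i1 := by nlinarith
      have := mul_le_mul_of_nonneg_left this (by linarith : (0 : ℤ) ≤ t)
      exact mul_le_mul_of_nonneg_right this (by linarith)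
    have h6 : P * (t * (t1 + (2 * P - 1))) ≤ P * ((P - 1) * i * t1) := by nlinarith [h5]
    have h7 := le_of_mul_le_mul_left h6 (by linarith : (0 : ℤ) < P)
    have h8 : (P - 1) * i * t1 ≤ (P - 1) * 2 * t := by
      have hi2 : i ≤ 2 := by omega
      calc (P - 1) * i * t1 ≤ (P - 1) * 2 * t1 := by
            exact mul_le_mul_of_nonneg_right (mul_le_mul_of_nonneg_left hi2 (by linarith))
              (by linarith)
        _ ≤ (P - 1) * 2 * t := mul_le_mul_of_nonneg_left ht1' (by linarith)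
    nlinarith [mul_pos (show (0 : ℤ) < t by linarith) (show (0 : ℤ) < t1 + 1 by linarith)]
  rw [e1] at i2'
  have hmm : mm p L M = (P - 1) * i - t := rfl
  rw [hmm] at hm
  have h6 : P * ((3 * P - 2) * t) ≤ P * ((P - 1) ^ 2 * i) := by nlinarith [i2']
  have h7 := le_of_mul_le_mul_left h6 (by linarith : (0 : ℤ) < P)
  have h8 : (3 * P - 2) * ((P - 1) * i - (2 * P - 2)) ≤ (3 * P - 2) * t :=
    mul_le_mul_of_nonneg_left (by linarith) (by linarith)
  have h9 : (P - 1) * ((2 * P - 1) * i) ≤ (P - 1) * (2 * (3 * P - 2)) := by nlinarith [h7, h8]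
  have h10 := le_of_mul_le_mul_left h9 (by linarith : (0 : ℤ) < P - 1)
  nlinarith

theorem atom_below {L x D : Subgroup G} (hgood : GoodBelow p L) (hx : Nat.card x < Nat.card L)
    (hD : Ext p x D) (hm : mm p x D ≤ 2 * (p : ℤ) - 2) : Atom p x D :=
  atom_of_mt hD (fun M' h _ => (hgood x hx M' h).1)
    (fun M' h h' => (hgood M' (h'.trans hx) D h).1) hm

theorem Ext.card_conj_lt {L M x : Subgroup G} (h : Ext p L M) (hx : x ∈ conjs L M) :
    Nat.card x < Nat.card L := (h.mem hx).1.card_lt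

theorem Ext.child {L M x y : Subgroup G} (h : Ext p L M) (hx : x ∈ conjs L M)
    (hy : y ∈ conjs L M) (hxy : x ≠ y) (hcov : Full p (R p (x ⊓ y)) L) :
    Ext p x (R p (x ⊓ y)) := by
  refine ⟨hcov.left ((R_le p _).trans inf_le_left) (h.mem hx).1.full.1, fun hc => hxy ?_,
    (h.mem hx).1.genM, R_R p _⟩
  exact h.eq_of_le hx hy (hc ▸ (R_le p _).trans inf_le_right)

theorem Ext.cnt_cov {L M x y : Subgroup G} (h : Ext p L M) (hx : x ∈ conjs L M)
    (hy : y ∈ conjs L M) (hxy : x ≠ y) (hcov : Full p (R p (x ⊓ y)) L) :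
    {Q ∈ syl p x | Q ≤ y}.ncard = nS p (R p (x ⊓ y)) := by
  unfold nS
  rw [syl_eq_of_full p (h.child hx hy hxy hcov).full]
  congr 1
  ext Q
  constructor
  · rintro ⟨h1, h2⟩
    exact ⟨h1, le_R_of_gen p (R_of_pgroup p h1.1) (le_inf h1.2.1 h2)⟩
  · rintro ⟨h1, h2⟩
    exact ⟨h1, h2.trans ((R_le p _).trans inf_le_right)⟩

theorem Ext.cov_of_fix {L M x y Q : Subgroup G} (h : Ext p L M) (hx : x ∈ conjs L M)
    (hQ : Q ∈ syl p x) (hy : Q ≤ y) : Full p (R p (x ⊓ y)) L := by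
  have hQL := mem_syl_of_full p (h.mem hx).1.full hQ
  exact hQL.2.right (le_R_of_gen p (R_of_pgroup p hQ.1) (le_inf hQ.2.1 hy))
    (((R_le p _).trans inf_le_left).trans (h.mem hx).1.full.1)

theorem Ext.cnt_free {L M x y : Subgroup G} (h : Ext p L M) (hx : x ∈ conjs L M)
    (hcov : ¬ Full p (R p (x ⊓ y)) L) : {Q ∈ syl p x | Q ≤ y}.ncard = 0 := by
  rw [Set.ncard_eq_zero (Set.toFinite _), Set.eq_empty_iff_forall_notMem]
  rintro Q ⟨h1, h2⟩
  exact hcov (h.cov_of_fix hx h1 h2)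

theorem Ext.cst_cov {L M x y : Subgroup G} (h : Ext p L M) (hx : x ∈ conjs L M)
    (hy : y ∈ conjs L M) (hxy : x ≠ y) (hcov : Full p (R p (x ⊓ y)) L) :
    cst p x y = ((p : ℤ) - 1) * nS p x - (2 * (p : ℤ) - 1) * nS p (R p (x ⊓ y)) := by
  unfold cst; rw [h.cnt_cov hx hy hxy hcov]

theorem Ext.cst_free {L M x y : Subgroup G} (h : Ext p L M) (hx : x ∈ conjs L M)
    (hcov : ¬ Full p (R p (x ⊓ y)) L) : cst p x y = ((p : ℤ) - 1) * nS p x := by
  unfold cst; rw [h.cnt_free hx hcov]; simp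

theorem Ext.cst_nonneg {L M x y : Subgroup G} (h : Ext p L M) (hgood : GoodBelow p L)
    (hx : x ∈ conjs L M) (hy : y ∈ conjs L M) (hxy : x ≠ y) : 0 ≤ cst p x y := by
  by_cases hcov : Full p (R p (x ⊓ y)) L
  · rw [h.cst_cov hx hy hxy hcov]
    have := (hgood x (h.card_conj_lt hx) _ (h.child hx hy hxy hcov)).1
    unfold MT at this
    linarith
  · rw [h.cst_free hx hcov]
    have : (2 : ℤ) ≤ p := by exact_mod_cast (two_le_p (p := p))
    exact mul_nonneg (by linarith) (Int.natCast_nonneg _)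

theorem Ext.cost_sum {L M x : Subgroup G} (h : Ext p L M) (hx : x ∈ conjs L M) :
    ∑ y ∈ (Set.toFinite (conjs L M \ {x})).toFinset, cst p x y =
      p * nS p x * (mm p L M + 1) := by
  classical
  set Y := (Set.toFinite (conjs L M \ {x})).toFinset with hY
  set S := (Set.toFinite (syl p x)).toFinset with hS
  have hcard : (Y.card : ℤ) = vv L M - 1 := by
    rw [hY, ← Set.ncard_eq_toFinset_card]
    have := Set.ncard_sdiff_singleton_add_one hx (Set.toFinite (conjs L M))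
    unfold vv
    omega
  have hScard : S.card = nS p x := by
    rw [hS, ← Set.ncard_eq_toFinset_card]; rfl
  have hcnt : ∀ y, ({Q ∈ syl p x | Q ≤ y}.ncard : ℕ) = (S.filter fun Q => Q ≤ y).card := by
    intro y
    rw [← Set.ncard_coe_finset]
    congr 1
    ext Q; simp [hS]
  have hfix : ∀ Q ∈ S, ((Y.filter fun y => Q ≤ y).card : ℤ) = tt p L M - 1 := by
    intro Q hQ
    have hQ' : Q ∈ syl p x := (Set.Finite.mem_toFinset _).1 hQ
    have he : ((Y.filter fun y => Q ≤ y).card) = (fixS Q (conjs L M) \ {x}).ncard := by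
      rw [← Set.ncard_coe_finset]
      congr 1
      ext y; simp [hY, fixS]; tauto
    have hxm : x ∈ fixS Q (conjs L M) := ⟨hx, hQ'.2.1⟩
    have := Set.ncard_sdiff_singleton_add_one hxm (Set.toFinite _)
    rw [h.fix_eq (mem_syl_of_full p (h.mem hx).1.full hQ')] at this
    omega
  have hdc : ∑ y ∈ Y, (({Q ∈ syl p x | Q ≤ y}.ncard : ℕ) : ℤ) = nS p x * (tt p L M - 1) := by
    calc ∑ y ∈ Y, (({Q ∈ syl p x | Q ≤ y}.ncard : ℕ) : ℤ)
        = ∑ y ∈ Y, ((S.filter fun Q => Q ≤ y).card : ℤ) := by simp only [hcnt]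
      _ = ∑ Q ∈ S, ((Y.filter fun y => Q ≤ y).card : ℤ) := by
          simp only [Finset.card_filter, Nat.cast_sum]
          exact Finset.sum_comm
      _ = ∑ Q ∈ S, ((tt p L M : ℤ) - 1) := Finset.sum_congr rfl hfix
      _ = nS p x * (tt p L M - 1) := by rw [Finset.sum_const, hScard, nsmul_eq_mul]
  unfold cst
  rw [Finset.sum_sub_distrib, Finset.sum_const, ← Finset.mul_sum, hdc, nsmul_eq_mul, hcard,
    h.cast.1]
  unfold mm
  ring

theorem Ext.cost_two {L M x : Subgroup G} (h : Ext p L M) (hgood : GoodBelow p L)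
    (hx : x ∈ conjs L M) {S1 S2 : Set (Subgroup G)} {c1 c2 : ℤ}
    (h1 : ∀ y ∈ S1, y ∈ conjs L M ∧ y ≠ x ∧ cst p x y = c1)
    (h2 : ∀ y ∈ S2, y ∈ conjs L M ∧ y ≠ x ∧ cst p x y = c2)
    (hd : ∀ y ∈ S1, y ∉ S2) :
    (S1.ncard : ℤ) * c1 + (S2.ncard : ℤ) * c2 ≤ p * nS p x * (mm p L M + 1) := by
  classical
  rw [← h.cost_sum hx]
  set Y := (Set.toFinite (conjs L M \ {x})).toFinset
  set A := (Set.toFinite S1).toFinset
  set B := (Set.toFinite S2).toFinset
  have hAB : Disjoint A B := by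
    rw [Finset.disjoint_left]
    intro y hy hy'
    exact hd y ((Set.Finite.mem_toFinset _).1 hy) ((Set.Finite.mem_toFinset _).1 hy')
  have hsub : A ∪ B ⊆ Y := by
    intro y hy
    rw [Finset.mem_union] at hy
    refine (Set.Finite.mem_toFinset _).2 ?_
    rcases hy with hy | hy
    · exact ⟨(h1 y ((Set.Finite.mem_toFinset _).1 hy)).1,
        (h1 y ((Set.Finite.mem_toFinset _).1 hy)).2.1⟩
    · exact ⟨(h2 y ((Set.Finite.mem_toFinset _).1 hy)).1,
        (h2 y ((Set.Finite.mem_toFinset _).1 hy)).2.1⟩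
  calc (S1.ncard : ℤ) * c1 + (S2.ncard : ℤ) * c2 = ∑ y ∈ A ∪ B, cst p x y := by
        rw [Finset.sum_union hAB,
          Finset.sum_congr rfl (fun y hy => (h1 y ((Set.Finite.mem_toFinset _).1 hy)).2.2),
          Finset.sum_congr rfl (fun y hy => (h2 y ((Set.Finite.mem_toFinset _).1 hy)).2.2),
          Finset.sum_const, Finset.sum_const, nsmul_eq_mul, nsmul_eq_mul,
          ← Set.ncard_eq_toFinset_card, ← Set.ncard_eq_toFinset_card]
    _ ≤ ∑ y ∈ Y, cst p x y := Finset.sum_le_sum_of_subset_of_nonneg hsub (fun y hy _ => by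
        have hy' := (Set.Finite.mem_toFinset _).1 hy
        exact h.cst_nonneg hgood hx hy'.1 (fun hc => hy'.2 hc.symm))

theorem Ext.fib_cj {L M x D : Subgroup G} (h : Ext p L M) (hx : x ∈ conjs L M) {g : G}
    (hg : g ∈ x) : fib p (conjs L M) x (cj g D) = cj g '' fib p (conjs L M) x D := by
  have hgL : g ∈ L := (h.mem hx).1.full.1 hg
  ext y
  constructor
  · rintro ⟨h1, h2, h3⟩
    refine ⟨cj g⁻¹ y, ⟨cj_mem_conjs (L.inv_mem hgL) h1, fun hc => h2 ?_, ?_⟩, cj_cj_inv g y⟩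
    · rw [← cj_cj_inv g y, hc, cj_mem_of_mem hg]
    · conv_lhs => rw [← cj_mem_of_mem (x.inv_mem hg)]
      rw [← cj_inf, R_cj, h3, cj_inv_cj]
  · rintro ⟨y, ⟨h1, h2, h3⟩, rfl⟩
    refine ⟨cj_mem_conjs hgL h1, fun hc => h2 (cj_injective g ?_), ?_⟩
    · rw [hc, cj_mem_of_mem hg]
    · conv_lhs => rw [← cj_mem_of_mem hg]
      rw [← cj_inf, R_cj, h3]

theorem Ext.cls_sub {L M x D : Subgroup G} (h : Ext p L M) (hx : x ∈ conjs L M)
    {S : Set (Subgroup G)} (hS : S ⊆ conjs x D) :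
    {y ∈ conjs L M | y ≠ x ∧ R p (x ⊓ y) ∈ S}.ncard =
      S.ncard * (fib p (conjs L M) x D).ncard := by
  induction S, Set.toFinite S using Set.Finite.induction_on with
  | empty => simp
  | @insert a S ha _ ih =>
    obtain ⟨g, hg, rfl⟩ := hS (Set.mem_insert a S)
    have hu : {y ∈ conjs L M | y ≠ x ∧ R p (x ⊓ y) ∈ insert (cj g D) S} =
        fib p (conjs L M) x (cj g D) ∪ {y ∈ conjs L M | y ≠ x ∧ R p (x ⊓ y) ∈ S} := by
      ext y
      simp only [fib, Set.mem_setOf_eq, Set.mem_insert_iff, Set.mem_union]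
      tauto
    have hd : Disjoint (fib p (conjs L M) x (cj g D))
        {y ∈ conjs L M | y ≠ x ∧ R p (x ⊓ y) ∈ S} := by
      rw [Set.disjoint_left]
      rintro y ⟨-, -, h3⟩ ⟨-, -, h4⟩
      exact ha (by rwa [h3] at h4)
    rw [hu, Set.ncard_union_eq hd (Set.toFinite _) (Set.toFinite _), h.fib_cj hx hg,
      Set.ncard_image_of_injective _ (cj_injective g), ih ((Set.subset_insert _ S).trans hS),
      Set.ncard_insert_of_notMem ha (Set.toFinite _)]
    ring

theorem Ext.cls_card {L M x D : Subgroup G} (h : Ext p L M) (hx : x ∈ conjs L M) :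
    (cls p (conjs L M) x D).ncard = vv x D * (fib p (conjs L M) x D).ncard :=
  h.cls_sub hx (subset_refl _)

theorem Ext.mem_cls {L M x y D : Subgroup G} (h : Ext p L M) (hx : x ∈ conjs L M)
    (hD : Ext p x D) (hy : y ∈ cls p (conjs L M) x D) :
    Full p (R p (x ⊓ y)) L ∧ cst p x y = ((p : ℤ) - 1) * nS p x - (2 * (p : ℤ) - 1) * nS p D := by
  obtain ⟨hyX, hne, hmem⟩ := hy
  have hE := hD.mem hmem
  have hcov : Full p (R p (x ⊓ y)) L := hE.1.full.trans Fact.out (h.mem hx).1.full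
  exact ⟨hcov, by rw [h.cst_cov hx hyX (Ne.symm hne) hcov, hE.2.1]⟩

theorem Ext.cls_cost {L M x D : Subgroup G} (h : Ext p L M) (hx : x ∈ conjs L M)
    (hD : Ext p x D) :
    ((cls p (conjs L M) x D).ncard : ℤ) *
        (((p : ℤ) - 1) * nS p x - (2 * (p : ℤ) - 1) * nS p D) =
      p * nS p x * ((fib p (conjs L M) x D).ncard * mm p x D) := by
  rw [h.cls_card hx, Nat.cast_mul, mul_comm (vv x D : ℤ), mul_assoc, hD.cost_eq]
  ring

theorem Ext.fixS_cls {L M x D Q : Subgroup G} (h : Ext p L M) (hx : x ∈ conjs L M)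
    (hD : Ext p x D) (hQ : Q ∈ syl p x) :
    (fixS Q (cls p (conjs L M) x D)).ncard = tt p x D * (fib p (conjs L M) x D).ncard := by
  rw [← hD.fix_eq hQ, ← h.cls_sub hx (S := fixS Q (conjs x D)) (fun y hy => hy.1)]
  congr 1
  ext y
  constructor
  · rintro ⟨⟨h1, h2, h3⟩, h4⟩
    exact ⟨h1, h2, h3, le_R_of_gen p (R_of_pgroup p hQ.1) (le_inf hQ.2.1 h4)⟩
  · rintro ⟨h1, h2, h3, h4⟩
    exact ⟨⟨h1, h2, h3⟩, h4.trans ((R_le p _).trans inf_le_right)⟩

theorem Ext.class_two {L M x D D' : Subgroup G} (h : Ext p L M) (hgood : GoodBelow p L)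
    (hx : x ∈ conjs L M) (hD : Ext p x D) (hD' : Ext p x D') (hne : D' ∉ conjs x D) :
    ((fib p (conjs L M) x D).ncard : ℤ) * mm p x D +
        ((fib p (conjs L M) x D').ncard : ℤ) * mm p x D' ≤ mm p L M + 1 := by
  have h1 := h.cost_two hgood hx (S1 := cls p (conjs L M) x D) (S2 := cls p (conjs L M) x D')
    (fun y hy => ⟨hy.1, hy.2.1, (h.mem_cls hx hD hy).2⟩)
    (fun y hy => ⟨hy.1, hy.2.1, (h.mem_cls hx hD' hy).2⟩)
    (fun y hy hy' => hne (by
      rw [← conjs_eq_of_mem hy.2.2, conjs_eq_of_mem hy'.2.2]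
      exact self_mem_conjs x D'))
  rw [h.cls_cost hx hD, h.cls_cost hx hD', ← mul_add] at h1
  refine le_of_mul_le_mul_left h1 ?_
  have : (0 : ℤ) < p := by exact_mod_cast (Fact.out : p.Prime).pos
  exact mul_pos this (by exact_mod_cast nS_pos p x)

theorem Ext.class_one {L M x D : Subgroup G} (h : Ext p L M) (hgood : GoodBelow p L)
    (hx : x ∈ conjs L M) (hD : Ext p x D) :
    ((fib p (conjs L M) x D).ncard : ℤ) * mm p x D ≤ mm p L M + 1 := by
  have h1 := h.cost_two hgood hx (S1 := cls p (conjs L M) x D) (S2 := ∅) (c2 := 0)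
    (fun y hy => ⟨hy.1, hy.2.1, (h.mem_cls hx hD hy).2⟩) (by simp) (by simp)
  rw [h.cls_cost hx hD, mul_zero, add_zero] at h1
  refine le_of_mul_le_mul_left h1 ?_
  have : (0 : ℤ) < p := by exact_mod_cast (Fact.out : p.Prime).pos
  exact mul_pos this (by exact_mod_cast nS_pos p x)

/-- the free points -/
theorem Ext.free_card {L M x y : Subgroup G} (h : Ext p L M) (hx : x ∈ conjs L M)
    (hy : y ∈ conjs L M) (hcov : ¬ Full p (R p (x ⊓ y)) L) :
    p ≤ {z ∈ conjs L M | z ≠ x ∧ ¬ Full p (R p (x ⊓ z)) L}.ncard := by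
  obtain ⟨Q, hQ⟩ := syl_nonempty p x
  have hQL := mem_syl_of_full p (h.mem hx).1.full hQ
  set F := {z ∈ conjs L M | z ≠ x ∧ ¬ Full p (R p (x ⊓ z)) L} with hF
  have hgen := (h.mem hx).1.genM
  have hne : y ≠ x := by
    rintro rfl
    exact hcov (by rw [inf_idem, hgen]; exact (h.mem hx).1.full)
  have hmod := card_mod' p hQ.1 hQL.2.1 (Y := F) (fun g hg z hz => by
    have hgx : g ∈ x := hQ.2.1 hg
    have hgL : g ∈ L := hQL.2.1 hg
    refine ⟨cj_mem_conjs hgL hz.1, fun hc => hz.2.1 (cj_injective g ?_), fun hc => hz.2.2 ?_⟩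
    · rw [hc, cj_mem_of_mem hgx]
    · rw [← cj_mem_of_mem hgx, ← cj_inf, R_cj] at hc
      have := hc.cj g⁻¹
      rwa [cj_inv_cj, cj_mem_of_mem (L.inv_mem hgL)] at this)
    (fun z hz => (h.mem hz.1).1.full)
  have h0 : fixS Q F = ∅ := by
    rw [Set.eq_empty_iff_forall_notMem]
    rintro z ⟨hz, hQz⟩
    exact hz.2.2 (h.cov_of_fix hx hQ hQz)
  rw [h0, Set.ncard_empty] at hmod
  exact Nat.le_of_dvd ((Set.ncard_pos (Set.toFinite _)).2 ⟨y, hy, hne, hcov⟩)
    (Nat.modEq_zero_iff_dvd.1 hmod)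

theorem Ext.class_free {L M x D y : Subgroup G} (h : Ext p L M) (hgood : GoodBelow p L)
    (hx : x ∈ conjs L M) (hD : Ext p x D) (hy : y ∈ conjs L M)
    (hcov : ¬ Full p (R p (x ⊓ y)) L) :
    ((fib p (conjs L M) x D).ncard : ℤ) * mm p x D + ((p : ℤ) - 1) ≤ mm p L M + 1 := by
  set F := {z ∈ conjs L M | z ≠ x ∧ ¬ Full p (R p (x ⊓ z)) L}
  have h1 := h.cost_two hgood hx (S1 := cls p (conjs L M) x D) (S2 := F)
    (fun z hz => ⟨hz.1, hz.2.1, (h.mem_cls hx hD hz).2⟩)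
    (fun z hz => ⟨hz.1, hz.2.1, h.cst_free hx hz.2.2⟩)
    (fun z hz hz' => hz'.2.2 (h.mem_cls hx hD hz).1)
  have hn : (0 : ℤ) < nS p x := by exact_mod_cast nS_pos p x
  have hF : (p : ℤ) ≤ F.ncard := by exact_mod_cast h.free_card hx hy hcov
  have hp2 : (2 : ℤ) ≤ p := by exact_mod_cast (two_le_p (p := p))
  rw [h.cls_cost hx hD] at h1
  have h2 : (p : ℤ) * ((p - 1) * nS p x) ≤ F.ncard * ((p - 1) * nS p x) :=
    mul_le_mul_of_nonneg_right hF (mul_nonneg (by linarith) hn.le)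
  refine le_of_mul_le_mul_left ?_ (mul_pos (by linarith : (0 : ℤ) < p) hn)
  nlinarith

end CfsgLib.SylRatio
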